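import Groth.Agent.Lib.NormEt14.Descend
import Groth.Agent.S10298

/-!
# Normalizations over étale charts, as normalizations of schemes
-/

universe u

set_option backward.isDefEq.respectTransparency.types false
set_option linter.unusedVariables false

open CategoryTheory CategoryTheory.Limits AlgebraicGeometry AlgSp Opposite
open Groth.Agent.AlgSpace Groth.Agent.AlgSpDescent Groth.Agent.EtSmLoc15

namespace Groth.Agent.NormEt14

variable {S : Scheme.{u}} {V V₂ G X₁ X₂ X' : Sp S} {f : V ⟶ G} {ν : X' ⟶ G} {f' : V ⟶ X'}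

theorem isRelNormalization_iso_comp (e : V₂ ⟶ V) [IsIso e] (h : IsRelNormalization f ν f') :
    IsRelNormalization (e ≫ f) ν (e ≫ f') := by
  refine ⟨by rw [Category.assoc, h.1], h.2.1, fun Z hZ π g hπ hg => ?_⟩
  obtain ⟨k, ⟨h₁, h₂⟩, hu⟩ := h.2.2 hZ π (inv e ≫ g) hπ (by simp [hg])
  exact ⟨k, ⟨by rw [Category.assoc, h₁, IsIso.hom_inv_id_assoc], h₂⟩,
    fun y hy => hu y ⟨by simp [← hy.1], hy.2⟩⟩

theorem exists_iso_of_isRelNormalization (hX₁ : IsAlgSpace X₁) (hX₂ : IsAlgSpace X₂) {ν₁ : X₁ ⟶ G}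
    {f₁ : V ⟶ X₁} {ν₂ : X₂ ⟶ G} {f₂ : V ⟶ X₂} (h₁ : IsRelNormalization f ν₁ f₁)
    (h₂ : IsRelNormalization f ν₂ f₂) : ∃ i : X₁ ≅ X₂, f₁ ≫ i.hom = f₂ ∧ i.hom ≫ ν₂ = ν₁ := by
  obtain ⟨i, ⟨hi₁, hi₂⟩, -⟩ := h₁.2.2 hX₂ ν₂ f₂ h₂.2.1 h₂.1
  obtain ⟨j, ⟨hj₁, hj₂⟩, -⟩ := h₂.2.2 hX₁ ν₁ f₁ h₁.2.1 h₁.1
  have hij : i ≫ j = 𝟙 X₁ := (h₁.2.2 hX₁ ν₁ f₁ h₁.2.1 h₁.1).unique
    ⟨by rw [← Category.assoc, hi₁, hj₁], by rw [Category.assoc, hj₂, hi₂]⟩
    ⟨Category.comp_id _, Category.id_comp _⟩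
  have hji : j ≫ i = 𝟙 X₂ := (h₂.2.2 hX₂ ν₂ f₂ h₂.2.1 h₂.1).unique
    ⟨by rw [← Category.assoc, hj₁, hi₁], by rw [Category.assoc, hi₂, hj₂]⟩
    ⟨Category.comp_id _, Category.id_comp _⟩
  exact ⟨⟨i, j, hij, hji⟩, hi₁, hi₂⟩

theorem quasiCompact_left_of_isQuasiCompactMor {A U : Over S} {h : A ⟶ U}
    (hqc : IsQuasiCompactMor ((yon S).map h)) : QuasiCompact h.left :=
  (repWith_yon_map_iff _ _).1 ((repWith_quasiCompact_iff (IsAlgSpace.yon_obj A) (IsAlgSpace.yon_obj U)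
    ((repWith_yon_map_iff ⊤ h).2 trivial).1).2 hqc)

/-- The scheme normalization of `h`, over `S`. -/
noncomputable abbrev normOver {A U : Over S} (h : A ⟶ U) [QuasiCompact h.left] [QuasiSeparated h.left] :
    Over S :=
  Over.mk (h.left.fromNormalization ≫ U.hom)

/-- The map from the scheme normalization of `h`. -/
noncomputable abbrev normOverHom {A U : Over S} (h : A ⟶ U) [QuasiCompact h.left] [QuasiSeparated h.left] :
    normOver h ⟶ U :=
  Over.homMk h.left.fromNormalization rfl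

/-- The map to the scheme normalization of `h`. -/
noncomputable abbrev toNormOver {A U : Over S} (h : A ⟶ U) [QuasiCompact h.left] [QuasiSeparated h.left] :
    A ⟶ normOver h :=
  Over.homMk h.left.toNormalization (by
    change h.left.toNormalization ≫ h.left.fromNormalization ≫ U.hom = _
    rw [Scheme.Hom.toNormalization_fromNormalization_assoc, Over.w])

/-- Over an étale chart on which the source is a scheme the normalization is that of schemes. -/
theorem exists_scheme_chart (hV : IsAlgSpace V) (hG : IsAlgSpace G) (hX' : IsAlgSpace X')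
    (hqc : IsQuasiCompactMor f) (hqs : IsQuasiSeparatedMor f) (hn : IsRelNormalization f ν f')
    {U : Over S} (y : (yon S).obj U ⟶ G) (hy : LocP @Smooth y)
    {A : Over S} {a : (yon S).obj A ⟶ V} {h : A ⟶ U} (sqA : IsPullback a ((yon S).map h) f y)
    [QuasiCompact h.left] [QuasiSeparated h.left] :
    ∃ z : (yon S).obj (normOver h) ⟶ X', IsPullback z ((yon S).map (normOverHom h)) ν y ∧
      IsPullback a ((yon S).map (toNormOver h)) f' z := by
  have hν := isIntegralMor_iff_repWith.1 hn.2.1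
  have sqN := hν.1.isPullback y
  let gU : (yon S).obj A ⟶ (yon S).obj (hν.1.pullback y) :=
    sqN.lift (a ≫ f') ((yon S).map h) (by rw [Category.assoc, hn.1, sqA.w])
  have h₁ : IsRelNormalization ((yon S).map h) ((yon S).map (hν.1.snd y)) gU :=
    isRelNormalization_of_isLocNorm (IsAlgSpace.yon_obj A) (IsAlgSpace.yon_obj U)
      (isQuasiCompactMor_of_isPullback sqA hqc) (isQuasiSeparatedMor_of_isPullback sqA hqs)
      (isLocNorm_baseChange hV hG (IsAlgSpace.yon_obj U) hqc hqs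
        (isLocNorm_of_isRelNormalization f hV hG hqc hqs hX' hn) hy sqA sqN (sqN.lift_snd _ _ _)
        (sqN.lift_fst _ _ _))
  have h₂ := Groth.Agent.S10298.result h (toNormOver h) (normOverHom h) (Iso.refl _) (by simp) (by simp)
  obtain ⟨i, hi₁, hi₂⟩ := exists_iso_of_isRelNormalization (IsAlgSpace.yon_obj _) (IsAlgSpace.yon_obj _) h₂ h₁
  have sqz : IsPullback (i.hom ≫ hν.1.fst y) ((yon S).map (normOverHom h)) ν y :=
    IsPullback.of_iso sqN i.symm (Iso.refl _) (Iso.refl _) (Iso.refl _) (by simp)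
      (by simp [← hi₂]) (by simp) (by simp)
  refine ⟨i.hom ≫ hν.1.fst y, sqz, IsPullback.of_bot ?_ ?_ sqz⟩
  · rw [hn.1, ← Functor.map_comp]
    convert sqA using 2
    exact Over.OverMorphism.ext (Scheme.Hom.toNormalization_fromNormalization _)
  · rw [← Category.assoc, hi₁, sqN.lift_fst]

end Groth.Agent.NormEt14

namespace Groth.Agent.NormEt14

variable {S : Scheme.{u}}

theorem isNormAff_of_isRelNormalization {V : Sp S} {U N : Over S} [IsAffine U.left]
    {gU : V ⟶ (yon S).obj U} {n : N ⟶ U} {g : V ⟶ (yon S).obj N}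
    (h : IsRelNormalization gU ((yon S).map n) g) : IsNormAff gU n g := by
  have hn : IsIntegralHom n.left :=
    (repWith_yon_map_iff _ _).1 (isIntegralMor_iff_repWith.1 h.2.1)
  refine ⟨isAffine_of_isAffineHom n.left, hn, h.1, fun M m hm k hk => ?_⟩
  obtain ⟨c, ⟨hc₁, hc₂⟩, hu⟩ := h.2.2 (IsAlgSpace.yon_obj M) ((yon S).map m) k
    (isIntegralMor_iff_repWith.2 ((repWith_yon_map_iff _ _).2 hm)) hk
  obtain ⟨c, rfl⟩ := (yon S).map_surjective c
  exact ⟨c, ⟨hc₁, (yon S).map_injective (by rw [Functor.map_comp, hc₂])⟩,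
    fun x hx => (yon S).map_injective (hu _ ⟨hx.1, by rw [← Functor.map_comp, hx.2]⟩)⟩

end Groth.Agent.NormEt14
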