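import Groth.Agent.Lib.NormEt14.Algebra
import Groth.Agent.Lib.RelNorm14.Exists
import Groth.Agent.Lib.AlgSpace.Affine
import Groth.Agent.Lib.AlgSpace.QCQS

/-!
# Normalizations of affine schemes in spaces
-/

universe u

set_option backward.isDefEq.respectTransparency.types false
set_option linter.unusedVariables false

open CategoryTheory CategoryTheory.Limits AlgebraicGeometry AlgSp Opposite
open Groth.Agent.AlgSpace

namespace Groth.Agent.NormEt14

variable {S : Scheme.{u}}

/-- An affine presentation of a sheaf over an affine scheme. -/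
structure Atlas {U : Over S} {V : Sp S} (gU : V ⟶ (yon S).obj U) where
  A : Over S
  R : Over S
  hA : IsAffine A.left
  hR : IsAffine R.left
  a : (yon S).obj A ⟶ V
  hae : RepWith @Etale a
  has : RepWith @Surjective a
  t : R ⟶ A
  s : R ⟶ A
  w : (yon S).map t ≫ a = (yon S).map s ≫ a
  hre : RepWith @Etale (pullback.lift ((yon S).map t) ((yon S).map s) w)
  hrs : RepWith @Surjective (pullback.lift ((yon S).map t) ((yon S).map s) w)

variable {U : Over S} {V : Sp S} {gU : V ⟶ (yon S).obj U}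

theorem exists_atlas [IsAffine U.left] (hV : IsAlgSpace V) (hqc : IsQuasiCompactMor gU)
    (hqs : IsQuasiSeparatedMor gU) : Nonempty (Atlas gU) := by
  have hVc : IsQuasiCompactSp V := by
    exact isQuasiCompactSp_of_mor hV (IsAlgSpace.yon_obj U) hqc
      ((isQuasiCompactSp_iff (IsAlgSpace.yon_obj U)).2 (compactSpace_yon_of_affine U))
  obtain ⟨A, a, hA, hae, has⟩ := exists_affine_chart hVc
  obtain ⟨c, hc⟩ := (yon S).map_surjective (a ≫ gU)
  have : IsAffine ((Over.forget S).obj A) := hA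
  have : IsAffine ((Over.forget S).obj U) := ‹IsAffine U.left›
  have : IsAffine (pullback c c).left :=
    IsAffine.of_isPullback ((IsPullback.of_hasPullback c c).map (Over.forget S))
  have hP : IsQuasiCompactSp (pullback a a) := by
    let d : pullback a a ⟶ pullback (a ≫ gU) (a ≫ gU) :=
      pullback.map a a (a ≫ gU) (a ≫ gU) (𝟙 _) (𝟙 _) gU (by simp) (by simp)
    have sqd : IsPullback (pullback.fst a a ≫ a) d (pullback.diagonal gU)
        (pullback.map (a ≫ gU) (a ≫ gU) gU gU a a (𝟙 _) (by simp) (by simp)) := by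
      have := pullback_map_diagonal_isPullback a a gU
      exact this
    have sqU : IsPullback (pullback.fst (a ≫ gU) (a ≫ gU)) (pullback.snd (a ≫ gU) (a ≫ gU))
        ((yon S).map c) ((yon S).map c) := by
      convert IsPullback.of_hasPullback (a ≫ gU) (a ≫ gU) using 1
    let e := ((IsPullback.of_hasPullback c c).map (yon S)).isoIsPullback _ _ sqU
    have hQ : IsAlgSpace (pullback (a ≫ gU) (a ≫ gU)) :=
      isAlgSpace_pullback (IsAlgSpace.yon_obj U) (IsAlgSpace.yon_obj A) (IsAlgSpace.yon_obj A)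
        (IsPullback.of_hasPullback _ _)
    have hPsp : IsAlgSpace (pullback a a) :=
      isAlgSpace_pullback hV (IsAlgSpace.yon_obj A) (IsAlgSpace.yon_obj A) (IsPullback.of_hasPullback _ _)
    have hdq : IsQuasiCompactMor d := by
      have hd : RepWith @QuasiCompact d := repWith_of_isPullback sqd hqs
      exact (repWith_quasiCompact_iff hPsp hQ hd.1).1 hd
    have := compactSpace_yon_of_affine (pullback c c)
    exact isQuasiCompactSp_of_mor hPsp hQ hdq
      ((isQuasiCompactSp_iff hQ).2 (compactSpace_of_surjective e.hom (bijective_map_iso _).2))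
  obtain ⟨R, r, hR, hre, hrs⟩ := exists_affine_chart hP
  obtain ⟨t, ht⟩ := (yon S).map_surjective (r ≫ pullback.fst a a)
  obtain ⟨s, hs⟩ := (yon S).map_surjective (r ≫ pullback.snd a a)
  have w : (yon S).map t ≫ a = (yon S).map s ≫ a := by
    rw [ht, hs, Category.assoc, Category.assoc, pullback.condition]
  have hl : pullback.lift ((yon S).map t) ((yon S).map s) w = r := by
    apply pullback.hom_ext
    · rw [pullback.lift_fst, ht]
    · rw [pullback.lift_snd, hs]
  exact ⟨⟨A, R, hA, hR, a, hae, has, t, s, w, hl ▸ hre, hl ▸ hrs⟩⟩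

namespace Atlas

variable (D : Atlas gU)

/-- The structure map of the chart. -/
noncomputable def c : D.A ⟶ U := (yon S).preimage (D.a ≫ gU)

theorem map_c : (yon S).map D.c = D.a ≫ gU := (yon S).map_preimage _

theorem t_c : D.t ≫ D.c = D.s ≫ D.c := (yon S).map_injective (by
  rw [Functor.map_comp, Functor.map_comp, map_c, ← Category.assoc, D.w, Category.assoc])

theorem epi_a : Epi D.a :=
  have := isLocallySurjective_of_etale D.hae D.has
  Sheaf.epi_of_isLocallySurjective' _

theorem hom_ext {F : Sp S} {k k' : V ⟶ F} (h : D.a ≫ k = D.a ≫ k') : k = k' :=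
  have := D.epi_a
  (cancel_epi D.a).1 h

theorem exists_desc {F : Sp S} (k : (yon S).obj D.A ⟶ F)
    (h : (yon S).map D.t ≫ k = (yon S).map D.s ≫ k) : ∃ k' : V ⟶ F, D.a ≫ k' = k := by
  have := D.epi_a
  have hreg : IsRegularEpi D.a := IsRegularEpiCategory.regularEpiOfEpi D.a
  let st := IsRegularEpi.getStruct D.a
  have hP : pullback.fst D.a D.a ≫ k = pullback.snd D.a D.a ≫ k := by
    have := isLocallySurjective_of_etale D.hre D.hrs
    have : Epi (pullback.lift ((yon S).map D.t) ((yon S).map D.s) D.w) :=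
      Sheaf.epi_of_isLocallySurjective' _
    rw [← cancel_epi (pullback.lift ((yon S).map D.t) ((yon S).map D.s) D.w), pullback.lift_fst_assoc,
      pullback.lift_snd_assoc]
    exact h
  obtain ⟨k', hk'⟩ := st.desc' k (by
    rw [← pullback.lift_fst st.left st.right st.w, Category.assoc, hP, ← Category.assoc,
      pullback.lift_snd])
  exact ⟨k', hk'⟩

end Atlas

/-- The integral factorisation `g` is initial among integral factorisations through affine schemes. -/
def IsNormAff (gU : V ⟶ (yon S).obj U) {N : Over S} (n : N ⟶ U) (g : V ⟶ (yon S).obj N) : Prop :=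
  IsAffine N.left ∧ IsIntegralHom n.left ∧ g ≫ (yon S).map n = gU ∧
    ∀ ⦃M : Over S⦄ (m : M ⟶ U), IsIntegralHom m.left → ∀ k : V ⟶ (yon S).obj M,
      k ≫ (yon S).map m = gU → ∃! h : N ⟶ M, g ≫ (yon S).map h = k ∧ h ≫ m = n

/-- The functions of the normalization, seen on a chart. -/
def IsEqClosure (D : Atlas gU) {N : Over S} (g : V ⟶ (yon S).obj N) : Prop :=
  Function.Injective ((yon S).preimage (D.a ≫ g)).left.appTop ∧
    Set.range ((yon S).preimage (D.a ≫ g)).left.appTop =
      eqSet D.c.left.appTop D.t.left.appTop D.s.left.appTop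

theorem isNormAff_of_isEqClosure [IsAffine U.left] (D : Atlas gU) {N : Over S} [IsAffine N.left]
    {n : N ⟶ U} [IsIntegralHom n.left] {g : V ⟶ (yon S).obj N} (hg : g ≫ (yon S).map n = gU)
    (h : IsEqClosure D g) : IsNormAff gU n g := by
  refine ⟨‹_›, ‹_›, hg, fun M m hm k hk => ?_⟩
  have := D.hA
  have := D.hR
  have : IsAffine M.left := isAffine_of_isAffineHom m.left
  obtain ⟨κ, hκ⟩ := (yon S).map_surjective (D.a ≫ k)
  have hlam := (yon S).map_preimage (D.a ≫ g)
  set lam := (yon S).preimage (D.a ≫ g)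
  have hκc : κ ≫ m = D.c := (yon S).map_injective (by
    rw [Functor.map_comp, hκ, D.map_c, Category.assoc, hk])
  have hlc : lam ≫ n = D.c := (yon S).map_injective (by
    rw [Functor.map_comp, hlam, D.map_c, Category.assoc, hg])
  have hts : D.t ≫ κ = D.s ≫ κ := (yon S).map_injective (by
    rw [Functor.map_comp, Functor.map_comp, hκ, ← Category.assoc, D.w, Category.assoc])
  have hint : m.left.appTop.hom.IsIntegral :=
    ((HasAffineProperty.iff_of_isAffine (P := @IsIntegralHom) (f := m.left)).1 hm).2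
  have hsub : ∀ b, κ.left.appTop b ∈ Set.range lam.left.appTop := by
    intro b
    rw [h.2]
    refine ⟨?_, ?_⟩
    · exact congrArg (fun j : D.R ⟶ M => j.left.appTop.hom b) hts
    · obtain ⟨P, hP, hev⟩ := hint b
      refine ⟨P, hP, ?_⟩
      have e : D.c.left.appTop.hom = κ.left.appTop.hom.comp m.left.appTop.hom := by
        rw [← hκc, Over.comp_left, Scheme.Hom.comp_appTop, CommRingCat.hom_comp]
      rw [e]
      exact (Polynomial.hom_eval₂ P _ κ.left.appTop.hom b).symm.trans
        ((congrArg κ.left.appTop.hom hev).trans (map_zero _))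
  choose φ hφ using hsub
  have h1 : Function.Injective lam.left.appTop := h.1
  let ψ : Γ(M.left, ⊤) →+* Γ(N.left, ⊤) :=
    { toFun := φ
      map_one' := h1 (by rw [hφ]; simp)
      map_mul' := fun x y => h1 (by simp [hφ])
      map_zero' := h1 (by rw [hφ]; simp)
      map_add' := fun x y => h1 (by simp [hφ]) }
  obtain ⟨h₀, hh₀⟩ := Groth.Agent.RelNorm14.exists_hom_of_ringHom
    (U := N.left) (V := M.left) (CommRingCat.ofHom ψ)
  have key : ∀ x : Γ(M.left, ⊤), lam.left.appTop (h₀.appTop x) = κ.left.appTop x := fun x => by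
    rw [hh₀]
    exact hφ x
  have hh₀m : h₀ ≫ m.left = n.left := by
    refine ext_of_isAffine (CommRingCat.hom_ext (RingHom.ext fun u => h1 ?_))
    rw [Scheme.Hom.comp_appTop]
    refine (key _).trans ?_
    exact (congrArg (fun j : D.A ⟶ U => j.left.appTop.hom u) (hκc.trans hlc.symm)).trans rfl
  let h' : N ⟶ M := Over.homMk h₀ (by rw [← Over.w m, ← Category.assoc, hh₀m, Over.w])
  have hlh : lam ≫ h' = κ :=
    Over.OverMorphism.ext (ext_of_isAffine (CommRingCat.hom_ext (RingHom.ext key)))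
  refine ⟨h', ⟨D.hom_ext ?_, Over.OverMorphism.ext hh₀m⟩, ?_⟩
  · rw [← Category.assoc, ← hlam, ← Functor.map_comp, hlh, hκ]
  · rintro h'' ⟨h₁, h₂⟩
    have e : lam ≫ h'' = lam ≫ h' := (yon S).map_injective (by
      rw [Functor.map_comp, Functor.map_comp, hlam, Category.assoc, h₁, ← hκ, ← hlh,
        Functor.map_comp, hlam])
    refine Over.OverMorphism.ext (ext_of_isAffine (CommRingCat.hom_ext (RingHom.ext fun x => h1 ?_)))
    exact congrArg (fun j : D.A ⟶ M => j.left.appTop.hom x) e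

theorem exists_isEqClosure [IsAffine U.left] (D : Atlas gU) :
    ∃ (N : Over S) (n : N ⟶ U) (g : V ⟶ (yon S).obj N), IsAffine N.left ∧ IsIntegralHom n.left ∧
      g ≫ (yon S).map n = gU ∧ IsEqClosure D g := by
  have := D.hA
  have := D.hR
  let R₀ := Γ(U.left, ⊤)
  let A₁ := Γ(D.A.left, ⊤)
  letI : Algebra R₀ A₁ := D.c.left.appTop.hom.toAlgebra
  let Q : Subalgebra R₀ A₁ :=
    { carrier := eqSet D.c.left.appTop D.t.left.appTop D.s.left.appTop
      mul_mem' := fun {x y} hx hy => ⟨by simp only [map_mul, hx.1, hy.1],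
        IsIntegral.mul (R := R₀) hx.2 hy.2⟩
      add_mem' := fun {x y} hx hy => ⟨by simp only [map_add, hx.1, hy.1],
        IsIntegral.add (R := R₀) hx.2 hy.2⟩
      algebraMap_mem' := fun x => ⟨congrArg (fun j : D.R ⟶ U => j.left.appTop.hom x) D.t_c,
        isIntegral_algebraMap (R := R₀) (A := A₁)⟩ }
  let B : CommRingCat.{u} := CommRingCat.of Q
  let r : R₀ ⟶ B := CommRingCat.ofHom (algebraMap R₀ Q)
  let jv : B ⟶ A₁ := CommRingCat.ofHom Q.val.toRingHom
  let n₀ : Spec B ⟶ U.left := Spec.map r ≫ U.left.isoSpec.inv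
  let N : Over S := Over.mk (n₀ ≫ U.hom)
  let n : N ⟶ U := Over.homMk n₀ rfl
  let l₀ : D.A.left ⟶ Spec B := D.A.left.isoSpec.hom ≫ Spec.map jv
  have hln : l₀ ≫ n₀ = D.c.left := by
    change (D.A.left.isoSpec.hom ≫ Spec.map jv) ≫ Spec.map r ≫ U.left.isoSpec.inv = _
    rw [Category.assoc, ← Spec.map_comp_assoc,
      show r ≫ jv = D.c.left.appTop from CommRingCat.hom_ext (RingHom.ext fun _ => rfl),
      Scheme.isoSpec_hom_naturality_assoc, Iso.hom_inv_id, Category.comp_id]
  let l : D.A ⟶ N := Over.homMk l₀ (by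
    change l₀ ≫ n₀ ≫ U.hom = _
    rw [← Category.assoc, hln, Over.w])
  have hlc : l ≫ n = D.c := Over.OverMorphism.ext hln
  have happ : ∀ x : B, l₀.appTop ((Scheme.ΓSpecIso B).inv x) = x.1 := by
    intro x
    change (D.A.left.isoSpec.hom ≫ Spec.map jv).appTop ((Scheme.ΓSpecIso B).inv x) = _
    rw [Scheme.Hom.comp_appTop]
    have e : (Scheme.ΓSpecIso B).inv ≫ (Spec.map jv).appTop = jv ≫ (Scheme.ΓSpecIso A₁).inv :=
      (Scheme.ΓSpecIso_inv_naturality jv).symm
    have e₁ := congrArg (fun k => k.hom x) e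
    refine (congrArg D.A.left.isoSpec.hom.appTop e₁).trans ?_
    rw [Scheme.isoSpec_hom, Scheme.toSpecΓ_appTop]
    exact congrArg (fun k => k.hom (jv x)) (Scheme.ΓSpecIso A₁).inv_hom_id
  have hsur := ConcreteCategory.bijective_of_isIso (Scheme.ΓSpecIso B).inv
  have hts : D.t ≫ l = D.s ≫ l := by
    refine Over.OverMorphism.ext (ext_of_isAffine (CommRingCat.hom_ext (RingHom.ext fun y => ?_)))
    obtain ⟨x, rfl⟩ := hsur.2 y
    change D.t.left.appTop.hom (l₀.appTop.hom _) = D.s.left.appTop.hom (l₀.appTop.hom _)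
    rw [show l₀.appTop.hom ((Scheme.ΓSpecIso B).inv x) = x.1 from happ x]
    exact x.2.1
  obtain ⟨g, hg⟩ := D.exists_desc ((yon S).map l) (by rw [← Functor.map_comp, hts, Functor.map_comp])
  refine ⟨N, n, g, inferInstanceAs (IsAffine (Spec B)), ?_, D.hom_ext ?_, ?_⟩
  · have : IsIntegralHom (Spec.map r) := IsIntegralHom.SpecMap_iff.2 fun x =>
      (isIntegral_algHom_iff (Q.val) Subtype.val_injective).1 x.2.2
    exact inferInstanceAs (IsIntegralHom (Spec.map r ≫ U.left.isoSpec.inv))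
  · rw [← Category.assoc, hg, ← Functor.map_comp, hlc, D.map_c]
  · have e : (yon S).preimage (D.a ≫ g) = l := by rw [hg, Functor.preimage_map]
    rw [IsEqClosure, e]
    refine ⟨fun p q hpq => ?_, Set.ext fun x => ⟨?_, fun hx => ?_⟩⟩
    · obtain ⟨p, rfl⟩ := hsur.2 p
      obtain ⟨q, rfl⟩ := hsur.2 q
      exact congrArg _ (Subtype.ext ((happ p).symm.trans (hpq.trans (happ q))))
    · rintro ⟨p, rfl⟩
      obtain ⟨p, rfl⟩ := hsur.2 p
      rw [show l.left.appTop ((Scheme.ΓSpecIso B).inv p) = p.1 from happ p]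
      exact p.2
    · exact ⟨(Scheme.ΓSpecIso B).inv ⟨x, hx⟩, happ ⟨x, hx⟩⟩

theorem exists_iso_of_isNormAff {N N' : Over S} {n : N ⟶ U} {g : V ⟶ (yon S).obj N} {n' : N' ⟶ U}
    {g' : V ⟶ (yon S).obj N'} (h : IsNormAff gU n g) (h' : IsNormAff gU n' g') :
    ∃ e : N ≅ N', g ≫ (yon S).map e.hom = g' ∧ e.hom ≫ n' = n := by
  obtain ⟨a, ⟨ha₁, ha₂⟩, -⟩ := h.2.2.2 n' h'.2.1 g' h'.2.2.1
  obtain ⟨b, ⟨hb₁, hb₂⟩, -⟩ := h'.2.2.2 n h.2.1 g h.2.2.1
  obtain ⟨i, -, hi⟩ := h.2.2.2 n h.2.1 g h.2.2.1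
  obtain ⟨i', -, hi'⟩ := h'.2.2.2 n' h'.2.1 g' h'.2.2.1
  refine ⟨⟨a, b, ?_, ?_⟩, ha₁, ha₂⟩
  · exact (hi _ ⟨by rw [Functor.map_comp, ← Category.assoc, ha₁, hb₁], by rw [Category.assoc, hb₂, ha₂]⟩).trans
      (hi _ ⟨by rw [(yon S).map_id]; exact Category.comp_id _, Category.id_comp _⟩).symm
  · exact (hi' _ ⟨by rw [Functor.map_comp, ← Category.assoc, hb₁, ha₁], by rw [Category.assoc, ha₂, hb₂]⟩).trans
      (hi' _ ⟨by rw [(yon S).map_id]; exact Category.comp_id _, Category.id_comp _⟩).symm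

theorem isEqClosure_of_isNormAff [IsAffine U.left] (D : Atlas gU) {N : Over S} {n : N ⟶ U}
    {g : V ⟶ (yon S).obj N} (h : IsNormAff gU n g) : IsEqClosure D g := by
  obtain ⟨N', n', g', hN', hn', hg', hc⟩ := exists_isEqClosure D
  obtain ⟨e, he, -⟩ := exists_iso_of_isNormAff h (isNormAff_of_isEqClosure D hg' hc)
  have hp : (yon S).preimage (D.a ≫ g') = (yon S).preimage (D.a ≫ g) ≫ e.hom := by
    apply (yon S).map_injective
    rw [Functor.map_comp, Functor.map_preimage, Functor.map_preimage, Category.assoc, he]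
  have : IsIso e.hom.left := inferInstanceAs (IsIso ((Over.forget S).map e.hom))
  have : IsIso e.hom.left.appTop := inferInstanceAs (IsIso (Scheme.Γ.map e.hom.left.op))
  have hb : Function.Bijective e.hom.left.appTop :=
    ConcreteCategory.bijective_of_isIso (C := CommRingCat) e.hom.left.appTop
  have hfun : ∀ x, ((yon S).preimage (D.a ≫ g')).left.appTop x =
      ((yon S).preimage (D.a ≫ g)).left.appTop (e.hom.left.appTop x) := fun x => by
    rw [hp, Over.comp_left, Scheme.Hom.comp_appTop]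
    rfl
  refine ⟨fun p q hpq => ?_, ?_⟩
  · obtain ⟨p, rfl⟩ := hb.2 p
    obtain ⟨q, rfl⟩ := hb.2 q
    rw [← hfun, ← hfun] at hpq
    exact congrArg _ (hc.1 hpq)
  · rw [← hc.2]
    ext x
    constructor
    · rintro ⟨p, rfl⟩
      obtain ⟨p, rfl⟩ := hb.2 p
      exact ⟨p, hfun p⟩
    · rintro ⟨p, rfl⟩
      exact ⟨_, (hfun p).symm⟩

end Groth.Agent.NormEt14
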