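import Mathlib.RingTheory.Smooth.IntegralClosure
import Mathlib.RingTheory.Flat.Equalizer
import Mathlib.Algebra.Category.Ring.Constructions

/-!
# Integral closure in an equalizer commutes with smooth base change
-/

universe u

open CategoryTheory TensorProduct

namespace Groth.Agent.NormEt14

section Tensor

variable {R T A₁ A₂ : Type u} [CommRing R] [CommRing T] [CommRing A₁] [CommRing A₂]
  [Algebra R T] [Algebra R A₁] [Algebra R A₂]

/-- The integral elements of the equalizer. -/
noncomputable def eqClosure (α β : A₁ →ₐ[R] A₂) : Subalgebra R A₁ :=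
  integralClosure R A₁ ⊓ AlgHom.equalizer α β

theorem injective_map_val [Module.Flat R T] (α β : A₁ →ₐ[R] A₂) :
    Function.Injective (Algebra.TensorProduct.map (AlgHom.id R T) (eqClosure α β).val) :=
  Module.Flat.lTensor_preserves_injective_linearMap (M := T)
    (eqClosure α β).val.toLinearMap Subtype.val_injective

theorem isIntegral_map_val (α β : A₁ →ₐ[R] A₂) (y : T ⊗[R] eqClosure α β) :
    IsIntegral T (Algebra.TensorProduct.map (AlgHom.id R T) (eqClosure α β).val y) := by
  induction y using TensorProduct.induction_on with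
  | zero => rw [map_zero]; exact isIntegral_zero
  | add a b ha hb => rw [map_add]; exact ha.add hb
  | tmul t a =>
    have h : IsIntegral T ((Algebra.TensorProduct.includeRight (R := R) (A := T)) a.1) :=
      ((show IsIntegral R a.1 from a.2.1).map _).tower_top
    convert h.smul t using 1
    simp [smul_tmul']

theorem map_val_eq (α β : A₁ →ₐ[R] A₂) (y : T ⊗[R] eqClosure α β) :
    Algebra.TensorProduct.map (AlgHom.id R T) α
        (Algebra.TensorProduct.map (AlgHom.id R T) (eqClosure α β).val y) =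
      Algebra.TensorProduct.map (AlgHom.id R T) β
        (Algebra.TensorProduct.map (AlgHom.id R T) (eqClosure α β).val y) := by
  induction y using TensorProduct.induction_on with
  | zero => simp only [map_zero]
  | add a b ha hb => simp only [map_add, ha, hb]
  | tmul t a =>
    simp only [Algebra.TensorProduct.map_tmul, AlgHom.coe_id, id_eq, Subalgebra.coe_val]
    rw [show α a.1 = β a.1 from a.2.2]

theorem exists_of_isIntegral [Algebra.Smooth R T] (α β : A₁ →ₐ[R] A₂) (x : T ⊗[R] A₁)
    (hx : IsIntegral T x)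
    (he : Algebra.TensorProduct.map (AlgHom.id R T) α x =
      Algebra.TensorProduct.map (AlgHom.id R T) β x) :
    ∃ y : T ⊗[R] eqClosure α β,
      Algebra.TensorProduct.map (AlgHom.id R T) (eqClosure α β).val y = x := by
  obtain ⟨z, hz⟩ := (toIntegralClosure_bijective_of_smooth (R := R) (S := T) (B := A₁)).2 ⟨x, hx⟩
  have hzx : Algebra.TensorProduct.map (AlgHom.id R T) (integralClosure R A₁).val z = x :=
    congrArg Subtype.val hz
  let αI := α.mapIntegralClosure
  let βI := β.mapIntegralClosure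
  have nat : ∀ (γ : A₁ →ₐ[R] A₂) (w : T ⊗[R] integralClosure R A₁),
      Algebra.TensorProduct.map (AlgHom.id R T) (integralClosure R A₂).val
          (Algebra.TensorProduct.map (AlgHom.id R T) γ.mapIntegralClosure w) =
        Algebra.TensorProduct.map (AlgHom.id R T) γ
          (Algebra.TensorProduct.map (AlgHom.id R T) (integralClosure R A₁).val w) := by
    intro γ w
    induction w using TensorProduct.induction_on with
    | zero => simp only [map_zero]
    | add a b ha hb => simp only [map_add, ha, hb]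
    | tmul t a => simp
  have hzeq : Algebra.TensorProduct.map (AlgHom.id R T) αI z =
      Algebra.TensorProduct.map (AlgHom.id R T) βI z := by
    apply Module.Flat.lTensor_preserves_injective_linearMap (M := T)
      (integralClosure R A₂).val.toLinearMap Subtype.val_injective
    change Algebra.TensorProduct.map (AlgHom.id R T) (integralClosure R A₂).val _ =
      Algebra.TensorProduct.map (AlgHom.id R T) (integralClosure R A₂).val _
    rw [nat, nat, hzx, he]
  let e := AlgHom.tensorEqualizerEquiv R T αI βI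
  let w := e.symm ⟨z, hzeq⟩
  have hw : Algebra.TensorProduct.map (AlgHom.id R T) (AlgHom.equalizer αI βI).val w = z := by
    rw [← AlgHom.coe_tensorEqualizer (S := R), ← AlgHom.tensorEqualizerEquiv_apply]
    exact congrArg Subtype.val (e.apply_symm_apply ⟨z, hzeq⟩)
  let c : AlgHom.equalizer αI βI →ₐ[R] eqClosure α β :=
    ((integralClosure R A₁).val.comp (AlgHom.equalizer αI βI).val).codRestrict _ fun a =>
      ⟨a.1.2, congrArg Subtype.val (show αI a.1 = βI a.1 from a.2)⟩
  refine ⟨Algebra.TensorProduct.map (AlgHom.id R T) c w, ?_⟩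
  rw [← hzx, ← hw, ← AlgHom.comp_apply, ← AlgHom.comp_apply, ← Algebra.TensorProduct.map_comp,
    ← Algebra.TensorProduct.map_comp]
  rfl

end Tensor

section Pushout

variable {R T A₁ A₂ A₁' A₂' B B' : CommRingCat.{u}}

/-- The integral elements of the equalizer, as a set. -/
def eqSet (i : R ⟶ A₁) (α β : A₁ ⟶ A₂) : Set A₁ :=
  {x | α x = β x ∧ i.hom.IsIntegralElem x}

theorem injective_and_range_of_isPushout {φ : R ⟶ T} (hφ : φ.hom.Smooth) {i : R ⟶ A₁}
    {α β : A₁ ⟶ A₂} (hαβ : i ≫ α = i ≫ β)
    {i' : T ⟶ A₁'} {p₁ : A₁ ⟶ A₁'} (po₁ : IsPushout φ i i' p₁)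
    {α' β' : A₁' ⟶ A₂'} {p₂ : A₂ ⟶ A₂'} (po₂ : IsPushout φ (i ≫ α) (i' ≫ α') p₂)
    (hα : p₁ ≫ α' = α ≫ p₂) (hβ : p₁ ≫ β' = β ≫ p₂) (hi' : i' ≫ α' = i' ≫ β')
    {r : R ⟶ B} {j : B ⟶ A₁} (hr : r ≫ j = i) (hj : Function.Injective j)
    (hjr : Set.range j = eqSet i α β)
    {r' : T ⟶ B'} {q : B ⟶ B'} (poB : IsPushout φ r r' q) {j' : B' ⟶ A₁'}
    (hq : q ≫ j' = j ≫ p₁) (hr' : r' ≫ j' = i') :
    Function.Injective j' ∧ Set.range j' = eqSet i' α' β' := by
  algebraize [φ.hom]
  letI := i.hom.toAlgebra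
  letI := (i ≫ α).hom.toAlgebra
  letI := r.hom.toAlgebra
  let αa : A₁ →ₐ[R] A₂ := { toRingHom := α.hom, commutes' := fun _ => rfl }
  let βa : A₁ →ₐ[R] A₂ :=
    { toRingHom := β.hom, commutes' := fun x => (congrArg (fun k => k.hom x) hαβ).symm }
  let ja : B →ₐ[R] eqClosure αa βa :=
    { toRingHom := j.hom.codRestrict (eqClosure αa βa) fun b => by
        have h : j b ∈ eqSet i α β := hjr ▸ Set.mem_range_self b
        exact ⟨h.2, h.1⟩
      commutes' := fun x => Subtype.ext (congrArg (fun k => k.hom x) hr) }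
  have hja : Function.Bijective ja := by
    refine ⟨fun a b h => hj (congrArg Subtype.val h), fun a => ?_⟩
    obtain ⟨b, hb⟩ : a.1 ∈ Set.range j := by
      rw [hjr]
      exact ⟨a.2.2, a.2.1⟩
    exact ⟨b, Subtype.ext hb⟩
  let e₁ := (CommRingCat.isPushout_tensorProduct R T A₁).isoPushout ≪≫ po₁.isoPushout.symm
  let e₂ := (CommRingCat.isPushout_tensorProduct R T A₂).isoPushout ≪≫ po₂.isoPushout.symm
  let eB := (CommRingCat.isPushout_tensorProduct R T B).isoPushout ≪≫ poB.isoPushout.symm
  have e₁t : ∀ t a, e₁.hom (t ⊗ₜ[R] a) = i' t * p₁ a := by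
    intro t a
    rw [show t ⊗ₜ[R] a = (t ⊗ₜ[R] 1) * (1 ⊗ₜ[R] a) by simp, map_mul]
    congr 1
    · exact congrArg (fun k => k.hom t) ((CommRingCat.isPushout_tensorProduct R T A₁).inl_isoPushout_hom_assoc
        po₁.isoPushout.inv |>.trans po₁.inl_isoPushout_inv)
    · exact congrArg (fun k => k.hom a) ((CommRingCat.isPushout_tensorProduct R T A₁).inr_isoPushout_hom_assoc
        po₁.isoPushout.inv |>.trans po₁.inr_isoPushout_inv)
  have e₂t : ∀ t a, e₂.hom (t ⊗ₜ[R] a) = α' (i' t) * p₂ a := by
    intro t a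
    rw [show t ⊗ₜ[R] a = (t ⊗ₜ[R] 1) * (1 ⊗ₜ[R] a) by simp, map_mul]
    congr 1
    · exact congrArg (fun k => k.hom t) ((CommRingCat.isPushout_tensorProduct R T A₂).inl_isoPushout_hom_assoc
        po₂.isoPushout.inv |>.trans po₂.inl_isoPushout_inv)
    · exact congrArg (fun k => k.hom a) ((CommRingCat.isPushout_tensorProduct R T A₂).inr_isoPushout_hom_assoc
        po₂.isoPushout.inv |>.trans po₂.inr_isoPushout_inv)
  have eBt : ∀ t a, eB.hom (t ⊗ₜ[R] a) = r' t * q a := by
    intro t a
    rw [show t ⊗ₜ[R] a = (t ⊗ₜ[R] 1) * (1 ⊗ₜ[R] a) by simp, map_mul]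
    congr 1
    · exact congrArg (fun k => k.hom t) ((CommRingCat.isPushout_tensorProduct R T B).inl_isoPushout_hom_assoc
        poB.isoPushout.inv |>.trans poB.inl_isoPushout_inv)
    · exact congrArg (fun k => k.hom a) ((CommRingCat.isPushout_tensorProduct R T B).inr_isoPushout_hom_assoc
        poB.isoPushout.inv |>.trans poB.inr_isoPushout_inv)
  have hαt : ∀ z : T ⊗[R] A₁, α' (e₁.hom z) =
      e₂.hom (Algebra.TensorProduct.map (AlgHom.id R T) αa z) := fun z => by
    induction z using TensorProduct.induction_on with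
    | zero => simp only [map_zero]
    | add a b ha hb => simp only [map_add, ha, hb]
    | tmul t a =>
      rw [e₁t, map_mul, Algebra.TensorProduct.map_tmul, e₂t]
      exact congrArg (α' (i' t) * ·) (congrArg (fun k => k.hom a) hα)
  have hβt : ∀ z : T ⊗[R] A₁, β' (e₁.hom z) =
      e₂.hom (Algebra.TensorProduct.map (AlgHom.id R T) βa z) := fun z => by
    induction z using TensorProduct.induction_on with
    | zero => simp only [map_zero]
    | add a b ha hb => simp only [map_add, ha, hb]
    | tmul t a =>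
      rw [e₁t, map_mul, Algebra.TensorProduct.map_tmul, e₂t]
      exact congrArg₂ (· * ·) (congrArg (fun k => k.hom t) hi').symm
        (congrArg (fun k => k.hom a) hβ)
  have hjt : ∀ z : T ⊗[R] B, j' (eB.hom z) = e₁.hom (Algebra.TensorProduct.map (AlgHom.id R T)
      (eqClosure αa βa).val (Algebra.TensorProduct.map (AlgHom.id R T) ja z)) := fun z => by
    induction z using TensorProduct.induction_on with
    | zero => simp only [map_zero]
    | add a b ha hb => simp only [map_add, ha, hb]
    | tmul t a =>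
      rw [eBt, map_mul, Algebra.TensorProduct.map_tmul, Algebra.TensorProduct.map_tmul, e₁t]
      exact congrArg₂ (· * ·) (congrArg (fun k => k.hom t) hr') (congrArg (fun k => k.hom a) hq)
  let jt := Algebra.TensorProduct.map (AlgHom.id R T) ja
  have hjtb : Function.Bijective jt :=
    (Algebra.TensorProduct.congr (AlgEquiv.refl (R := R) (A₁ := T)) (AlgEquiv.ofBijective ja hja)).bijective
  have hi1 : ∀ t, e₁.hom (algebraMap T (T ⊗[R] A₁) t) = i' t := fun t => by
    rw [Algebra.TensorProduct.algebraMap_apply, e₁t, map_one, mul_one]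
    rfl
  have he₁ := ConcreteCategory.bijective_of_isIso e₁.hom
  have heB := ConcreteCategory.bijective_of_isIso eB.hom
  have he₂ := ConcreteCategory.bijective_of_isIso e₂.hom
  refine ⟨fun a b hab => ?_, Set.ext fun x => ⟨?_, ?_⟩⟩
  · obtain ⟨a, rfl⟩ := heB.2 a
    obtain ⟨b, rfl⟩ := heB.2 b
    rw [hjt, hjt] at hab
    exact congrArg _ (hjtb.1 (injective_map_val αa βa (he₁.1 hab)))
  · rintro ⟨y, rfl⟩
    obtain ⟨z, rfl⟩ := heB.2 y
    rw [hjt]
    refine ⟨?_, ?_⟩
    · rw [hαt, hβt, map_val_eq]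
    · have h := (isIntegral_map_val αa βa (Algebra.TensorProduct.map (AlgHom.id R T) ja z))
      obtain ⟨P, hP, hev⟩ := h
      refine ⟨P, hP, ?_⟩
      have := (Polynomial.hom_eval₂ P _ e₁.hom.hom _).symm.trans ((congrArg e₁.hom.hom hev).trans (map_zero _))
      rw [show i'.hom = e₁.hom.hom.comp (algebraMap T (T ⊗[R] A₁)) from RingHom.ext fun t => (hi1 t).symm]
      exact this
  · rintro ⟨hxe, P, hP, hev⟩
    obtain ⟨w, rfl⟩ := he₁.2 x
    have hw : IsIntegral T w := by
      refine ⟨P, hP, he₁.1 ?_⟩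
      rw [map_zero]
      refine (Polynomial.hom_eval₂ _ _ e₁.hom.hom _).trans ?_
      rw [show e₁.hom.hom.comp (algebraMap T (T ⊗[R] A₁)) = i'.hom from RingHom.ext fun t => hi1 t]
      exact hev
    obtain ⟨y, hy⟩ := exists_of_isIntegral αa βa w hw (he₂.1 (by rw [← hαt, ← hβt, hxe]))
    obtain ⟨z, hz⟩ := hjtb.2 y
    exact ⟨eB.hom z, by rw [hjt]; exact congrArg e₁.hom ((congrArg _ hz).trans hy)⟩

end Pushout

end Groth.Agent.NormEt14
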