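import Groth.Agent.Lib.NormEt14.BaseSmooth

/-!
# The normalization over an atlas
-/

universe u

set_option backward.isDefEq.respectTransparency.types false
set_option linter.unusedVariables false

open CategoryTheory CategoryTheory.Limits AlgebraicGeometry AlgSp Opposite
open Groth.Agent.AlgSpace Groth.Agent.AlgSpDescent

namespace Groth.Agent.NormEt14

variable {S : Scheme.{u}}

/-- A natural family of maps of test schemes gives a map of sheaves. -/
theorem exists_hom_of_family {F F' : Sp S} (φ : ∀ ⦃T : Over S⦄, ((yon S).obj T ⟶ F) → ((yon S).obj T ⟶ F'))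
    (hφ : ∀ ⦃T T' : Over S⦄ (a : T' ⟶ T) (t : (yon S).obj T ⟶ F),
      φ ((yon S).map a ≫ t) = (yon S).map a ≫ φ t) :
    ∃ k : F ⟶ F', ∀ ⦃T : Over S⦄ (t : (yon S).obj T ⟶ F), t ≫ k = φ t := by
  let k : F ⟶ F' := ObjectProperty.homMk
    { app := fun T => TypeCat.ofHom fun x => sect (φ (sect.symm x : (yon S).obj T.unop ⟶ F))
      naturality := fun T T' a => by
        ext x
        change sect (φ (sect.symm (F.obj.map a x))) = F'.obj.map a (sect (φ (sect.symm x)))
        have e : (sect.symm (F.obj.map a x) : (yon S).obj T'.unop ⟶ F) =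
            (yon S).map a.unop ≫ sect.symm x := sect.injective (by
          rw [Equiv.apply_symm_apply, ← GrothendieckTopology.uliftYonedaEquiv_naturality,
            Equiv.apply_symm_apply]
          rfl)
        rw [e, hφ, ← GrothendieckTopology.uliftYonedaEquiv_naturality]
        rfl }
  refine ⟨k, fun T t => sect.injective ?_⟩
  rw [GrothendieckTopology.uliftYonedaEquiv_comp]
  change sect (φ (sect.symm (sect t))) = _
  rw [Equiv.symm_apply_apply]

theorem disjoint_range_coprodOverι {κ : Type u} (W : κ → Over S) {i j : κ} (h : i ≠ j) :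
    Disjoint (Set.range (coprodOverι W i).left) (Set.range (coprodOverι W j).left) :=
  Set.disjoint_left.2 fun y hi hj =>
    (SetLike.le_def.1 (disjoint_opensRange_sigmaι (fun j => (W j).left) i j h).le_bot
      (TopologicalSpace.Opens.mem_inf.2 ⟨hi, hj⟩) : y ∈ (⊥ : TopologicalSpace.Opens _)).elim

theorem isPullback_coprodOverι {κ : Type u} {N W : κ → Over S} (n : ∀ k, N k ⟶ W k)
    (m : coprodOver N ⟶ coprodOver W) (hm : ∀ k, coprodOverι N k ≫ m = n k ≫ coprodOverι W k) (k : κ) :
    IsPullback (coprodOverι N k) (n k) m (coprodOverι W k) := by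
  refine IsPullback.of_map_of_faithful (Over.forget S) ?_
  have := isOpenImmersion_coprodOverι N k
  have := isOpenImmersion_coprodOverι W k
  refine (IsOpenImmersion.isPullback (n k).left (coprodOverι N k).left (coprodOverι W k).left m.left
    ?_ ?_).flip
  · exact congrArg (fun j => j.left) (hm k)
  · ext y
    simp only [Scheme.Hom.image_top_eq_opensRange, TopologicalSpace.Opens.map_coe,
      Scheme.Hom.coe_opensRange, Set.mem_range, Set.mem_preimage]
    constructor
    · rintro ⟨v, hv⟩
      obtain ⟨l, x, hx⟩ := (sigmaOpenCover (fun j => (N j).left)).exists_eq y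
      have hx' : (coprodOverι N l).left x = y := hx
      rcases eq_or_ne l k with rfl | hlk
      · exact ⟨x, hx'⟩
      · have e : (coprodOverι W l).left ((n l).left x) = (coprodOverι W k).left v :=
          (congrArg (fun j => j.left x) (hm l)).symm.trans ((congrArg m.left hx').trans hv.symm)
        exact (Set.disjoint_left.1 (disjoint_range_coprodOverι W hlk) ⟨(n l).left x, rfl⟩ ⟨v, e.symm⟩).elim
    · rintro ⟨x, rfl⟩
      exact ⟨(n k).left x, congrArg (fun j => j.left x) (hm k).symm⟩

variable {V G : Sp S} (f : V ⟶ G)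

/-- The normalization over an affine atlas. -/
theorem exists_over_atlas (hV : IsAlgSpace V) (hG : IsAlgSpace G) (hqc : IsQuasiCompactMor f)
    (hqs : IsQuasiSeparatedMor f) {κ : Type u} (W : κ → Over S) (hW : ∀ k, IsAffine (W k).left)
    (φ : (yon S).obj (coprodOver W) ⟶ G) :
    ∃ (N : Over S) (n : N ⟶ coprodOver W) (gN : pullback f φ ⟶ (yon S).obj N),
      IsLocNorm (pullback.snd f φ) ((yon S).map n) gN := by
  have hnorm : ∀ k, ∃ (Nk : Over S) (nk : Nk ⟶ W k)
      (gk : pullback f ((yon S).map (coprodOverι W k) ≫ φ) ⟶ (yon S).obj Nk),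
      IsNormAff (pullback.snd f ((yon S).map (coprodOverι W k) ≫ φ)) nk gk := fun k => by
    have := hW k
    have sq := IsPullback.of_hasPullback f ((yon S).map (coprodOverι W k) ≫ φ)
    obtain ⟨D⟩ := exists_atlas (isAlgSpace_pullback hG hV (IsAlgSpace.yon_obj _) sq)
      (isQuasiCompactMor_of_isPullback sq hqc) (isQuasiSeparatedMor_of_isPullback sq hqs)
    obtain ⟨Nk, nk, gk, hN, hn, hg, hc⟩ := exists_isEqClosure D
    exact ⟨Nk, nk, gk, isNormAff_of_isEqClosure D hg hc⟩
  choose Nk nk gk hk using hnorm
  let n : coprodOver Nk ⟶ coprodOver W := Over.homMk (Limits.Sigma.map fun k => (nk k).left)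
    (by apply Sigma.hom_ext; intro k; simp)
  have hn : ∀ k, coprodOverι Nk k ≫ n = nk k ≫ coprodOverι W k := fun k =>
    Over.OverMorphism.ext (by simp [n])
  have sqn := fun k => isPullback_coprodOverι nk n hn k
  have hint : IsIntegralHom n.left := by
    refine (IsZariskiLocalAtTarget.iff_of_openCover (P := @IsIntegralHom)
      (sigmaOpenCover fun k => (W k).left)).2 fun k => ?_
    have sq := (sqn k).map (Over.forget S)
    exact (MorphismProperty.arrow_mk_iso_iff @IsIntegralHom
      (Arrow.isoMk sq.isoPullback (Iso.refl _)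
        (sq.isoPullback_hom_snd.trans (Category.comp_id _).symm))).1 (hk k).2.1
  have sqk : ∀ k, IsPullback ((yon S).map (coprodOverι Nk k)) ((yon S).map (nk k))
      ((yon S).map n) ((yon S).map (coprodOverι W k) ≫ 𝟙 _) := fun k => by
    rw [Category.comp_id]; exact (sqn k).map (yon S)
  have hnk : ∀ k, gk k ≫ (yon S).map (nk k) = pullback.snd f ((yon S).map (coprodOverι W k) ≫ φ) :=
    fun k => (hk k).2.2.1
  -- pieces of a point
  let pc : ∀ ⦃T : Over S⦄ (t : (yon S).obj T ⟶ pullback f φ) (k : κ),
      (yon S).obj (pullback ((yon S).preimage (t ≫ pullback.snd f φ)) (coprodOverι W k)) ⟶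
        pullback f ((yon S).map (coprodOverι W k) ≫ φ) := fun T t k =>
    pullback.lift ((yon S).map (pullback.fst _ _) ≫ t ≫ pullback.fst f φ)
      ((yon S).map (pullback.snd _ _)) (by
        rw [← Functor.map_comp_assoc, ← pullback.condition, Functor.map_comp_assoc,
          Functor.map_preimage, Category.assoc, Category.assoc, Category.assoc, pullback.condition])
  have hpc : ∀ ⦃T : Over S⦄ (t : (yon S).obj T ⟶ pullback f φ) (k : κ),
      pc t k ≫ pullback.fst _ _ = (yon S).map (pullback.fst _ _) ≫ t ≫ pullback.fst f φ ∧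
        pc t k ≫ pullback.snd _ _ = (yon S).map (pullback.snd _ _) := fun T t k =>
    ⟨pullback.lift_fst _ _ _, pullback.lift_snd _ _ _⟩
  -- values on pieces
  have hval : ∀ ⦃T : Over S⦄ (t : (yon S).obj T ⟶ pullback f φ), ∃! l : (yon S).obj T ⟶ (yon S).obj (coprodOver Nk),
      ∀ k (Q : Over S) (a : Q ⟶ T) (p : (yon S).obj Q ⟶ pullback f ((yon S).map (coprodOverι W k) ≫ φ)),
        p ≫ pullback.fst _ _ = (yon S).map a ≫ t ≫ pullback.fst f φ →
        p ≫ pullback.snd _ _ ≫ (yon S).map (coprodOverι W k) = (yon S).map a ≫ t ≫ pullback.snd f φ →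
        (yon S).map a ≫ l = p ≫ gk k ≫ (yon S).map (coprodOverι Nk k) := by
    intro T t
    obtain ⟨ho, hs⟩ := coprodOver_pieces W ((yon S).preimage (t ≫ pullback.snd f φ))
    obtain ⟨l, hl, hlu⟩ := existsUnique_glue
      (fun k => pullback.fst ((yon S).preimage (t ≫ pullback.snd f φ)) (coprodOverι W k)) ho hs
      (fun k => pc t k ≫ gk k ≫ (yon S).map (coprodOverι Nk k)) fun i j Q a b hab => by
        have e : (a ≫ pullback.snd _ (coprodOverι W i)) ≫ coprodOverι W i =
            (b ≫ pullback.snd _ (coprodOverι W j)) ≫ coprodOverι W j := by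
          rw [Category.assoc, Category.assoc, ← pullback.condition, ← pullback.condition,
            ← Category.assoc, hab, Category.assoc]
        rcases coprodOverι_disjoint e with ⟨rfl, e'⟩ | hE
        · simp only [eqToHom_refl, Category.comp_id] at e'
          rw [show a = b from pullback.hom_ext hab e']
        · exact hom_ext_of_isEmpty' hE _ _
    have hdet : ∀ k (Q : Over S) (a : Q ⟶ T)
        (p : (yon S).obj Q ⟶ pullback f ((yon S).map (coprodOverι W k) ≫ φ)),
        p ≫ pullback.fst _ _ = (yon S).map a ≫ t ≫ pullback.fst f φ →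
        p ≫ pullback.snd _ _ ≫ (yon S).map (coprodOverι W k) = (yon S).map a ≫ t ≫ pullback.snd f φ →
        ∃ c : Q ⟶ pullback ((yon S).preimage (t ≫ pullback.snd f φ)) (coprodOverι W k),
          c ≫ pullback.fst _ _ = a ∧ (yon S).map c ≫ pc t k = p := by
      intro k Q a p h₁ h₂
      obtain ⟨q, hq⟩ := (yon S).map_surjective (p ≫ pullback.snd _ _)
      have hw : a ≫ (yon S).preimage (t ≫ pullback.snd f φ) = q ≫ coprodOverι W k :=
        (yon S).map_injective (by
          rw [Functor.map_comp, Functor.map_preimage, Functor.map_comp, hq, Category.assoc]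
          exact h₂.symm)
      refine ⟨pullback.lift a q hw, pullback.lift_fst _ _ _, pullback.hom_ext ?_ ?_⟩
      · rw [Category.assoc, (hpc t k).1, ← Functor.map_comp_assoc, pullback.lift_fst, h₁]
      · rw [Category.assoc, (hpc t k).2, ← Functor.map_comp, pullback.lift_snd, hq]
    refine ⟨l, fun k Q a p h₁ h₂ => ?_, fun l' hl' => hlu l' fun k => ?_⟩
    · obtain ⟨c, rfl, rfl⟩ := hdet k Q a p h₁ h₂
      rw [Functor.map_comp, Category.assoc, hl k, Category.assoc]
    · refine hl' k _ _ _ (hpc t k).1 ?_
      rw [← Category.assoc, (hpc t k).2, ← Functor.map_comp, ← pullback.condition, Functor.map_comp,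
        Functor.map_preimage]
  choose val hval₁ hval₂ using hval
  obtain ⟨gN, hgN⟩ := exists_hom_of_family (F := pullback f φ) val fun T T' a t => by
    refine (hval₂ ((yon S).map a ≫ t) _ fun k Q b p h₁ h₂ => ?_).symm
    rw [← Functor.map_comp_assoc]
    refine hval₁ t k Q (b ≫ a) p ?_ ?_
    · rw [h₁, Functor.map_comp]; simp only [Category.assoc]
    · rw [h₂, Functor.map_comp]; simp only [Category.assoc]
  have hgNk : ∀ k (P : pullback f ((yon S).map (coprodOverι W k) ≫ φ) ⟶ pullback f φ),
      P ≫ pullback.fst f φ = pullback.fst _ _ →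
      P ≫ pullback.snd f φ = pullback.snd _ _ ≫ (yon S).map (coprodOverι W k) →
      P ≫ gN = gk k ≫ (yon S).map (coprodOverι Nk k) := by
    intro k P h₁ h₂
    refine hom_ext_yon fun T p => ?_
    rw [← Category.assoc, hgN, ← Category.id_comp (val _), ← (yon S).map_id]
    exact hval₁ (p ≫ P) k T (𝟙 T) p
      (by rw [(yon S).map_id]; erw [Category.id_comp]; rw [Category.assoc, h₁])
      (by rw [(yon S).map_id]; erw [Category.id_comp]; rw [Category.assoc, h₂])
  have hgNn : gN ≫ (yon S).map n = pullback.snd f φ := by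
    refine hom_ext_yon fun T t => ?_
    rw [← Category.assoc, hgN]
    obtain ⟨ho, hs⟩ := coprodOver_pieces W ((yon S).preimage (t ≫ pullback.snd f φ))
    refine hom_ext_glue _ ho hs fun k => ?_
    rw [← Category.assoc, hval₁ t k _ _ _ (hpc t k).1 (by
      rw [← Category.assoc, (hpc t k).2, ← Functor.map_comp, ← pullback.condition, Functor.map_comp,
        Functor.map_preimage])]
    simp only [Category.assoc, ← Functor.map_comp, hn]
    simp only [Functor.map_comp]
    rw [reassoc_of% hnk k, reassoc_of% (hpc t k).2, ← Functor.map_comp, ← pullback.condition,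
      Functor.map_comp, Functor.map_preimage]
  refine ⟨coprodOver Nk, n, gN, hgNn, isIntegralMor_iff_repWith.2 ((repWith_yon_map_iff _ _).2 hint),
    κ, W, 𝟙 _, hW, repWith_id @Etale _, repWith_id @Surjective _, fun k => ?_⟩
  let P : pullback f ((yon S).map (coprodOverι W k) ≫ φ) ⟶ pullback f φ :=
    pullback.lift (pullback.fst _ _) (pullback.snd _ _ ≫ (yon S).map (coprodOverι W k))
      (by rw [Category.assoc]; exact pullback.condition)
  have hP₁ : P ≫ pullback.fst f φ = pullback.fst _ _ := pullback.lift_fst _ _ _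
  have hP₂ : P ≫ pullback.snd f φ = pullback.snd _ _ ≫ (yon S).map (coprodOverι W k) :=
    pullback.lift_snd _ _ _
  refine ⟨Nk k, nk k, (yon S).map (coprodOverι Nk k), _, P, _, gk k, sqk k, ?_, (hgNk k P hP₁ hP₂).symm,
    hnk k, hk k⟩
  rw [Category.comp_id]
  refine IsPullback.of_right ?_ hP₂ (IsPullback.of_hasPullback f φ)
  rw [hP₁]
  exact IsPullback.of_hasPullback _ _

end Groth.Agent.NormEt14
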