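import Groth.Agent.Lib.NormEt14.Affine

/-!
# Smooth base change of normalizations of affine schemes in spaces
-/

universe u

set_option backward.isDefEq.respectTransparency.types false
set_option linter.unusedVariables false

open CategoryTheory CategoryTheory.Limits AlgebraicGeometry AlgSp Opposite
open Groth.Agent.AlgSpace

namespace Groth.Agent.NormEt14

variable {S : Scheme.{u}} {U U' : Over S} {V V' : Sp S} {gU : V ⟶ (yon S).obj U}

/-- The pulled back presentation with its comparison maps. -/
theorem exists_atlas_baseChange (D : Atlas gU) [IsAffine U.left] [IsAffine U'.left] (u : U' ⟶ U)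
    {vfst : V' ⟶ V} {gU' : V' ⟶ (yon S).obj U'} (sqV : IsPullback vfst gU' gU ((yon S).map u)) :
    ∃ (D' : Atlas gU') (fA : D'.A ⟶ D.A) (fR : D'.R ⟶ D.R),
      IsPullback fA D'.c D.c u ∧ IsPullback fR (D'.t ≫ D'.c) (D.t ≫ D.c) u ∧
      (yon S).map fA ≫ D.a = D'.a ≫ vfst ∧ D'.t ≫ fA = fR ≫ D.t ∧ D'.s ≫ fA = fR ≫ D.s := by
  have : IsAffine ((Over.forget S).obj D.A) := D.hA
  have : IsAffine ((Over.forget S).obj D.R) := D.hR
  have : IsAffine ((Over.forget S).obj U) := ‹IsAffine U.left›
  have : IsAffine ((Over.forget S).obj U') := ‹IsAffine U'.left›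
  have sqA := IsPullback.of_hasPullback D.c u
  let A' := pullback D.c u
  let R' := pullback (D.t ≫ D.c) u
  have sqR := IsPullback.of_hasPullback (D.t ≫ D.c) u
  have hA' : IsAffine A'.left := IsAffine.of_isPullback (sqA.map (Over.forget S))
  have hR' : IsAffine R'.left := IsAffine.of_isPullback (sqR.map (Over.forget S))
  let fA : A' ⟶ D.A := pullback.fst D.c u
  let fR : R' ⟶ D.R := pullback.fst (D.t ≫ D.c) u
  let t' : R' ⟶ A' := pullback.lift (fR ≫ D.t) (pullback.snd _ u)
    (by rw [Category.assoc]; exact pullback.condition)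
  let s' : R' ⟶ A' := pullback.lift (fR ≫ D.s) (pullback.snd _ u)
    (by rw [Category.assoc, ← D.t_c]; exact pullback.condition)
  have ht₁ : t' ≫ fA = fR ≫ D.t := pullback.lift_fst _ _ _
  have hs₁ : s' ≫ fA = fR ≫ D.s := pullback.lift_fst _ _ _
  have ht₂ : t' ≫ pullback.snd D.c u = pullback.snd _ u := pullback.lift_snd _ _ _
  have hs₂ : s' ≫ pullback.snd D.c u = pullback.snd _ u := pullback.lift_snd _ _ _
  have sqt : IsPullback fR t' D.t fA := IsPullback.of_bot (by rw [ht₂]; exact sqR) ht₁.symm sqA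
  let a' : (yon S).obj A' ⟶ V' := sqV.lift ((yon S).map fA ≫ D.a) ((yon S).map (pullback.snd D.c u))
    (by rw [Category.assoc, ← D.map_c, ← Functor.map_comp, ← Functor.map_comp, pullback.condition])
  have ha₁ : a' ≫ vfst = (yon S).map fA ≫ D.a := sqV.lift_fst _ _ _
  have ha₂ : a' ≫ gU' = (yon S).map (pullback.snd D.c u) := sqV.lift_snd _ _ _
  have sqa : IsPullback ((yon S).map fA) a' D.a vfst := by
    refine IsPullback.of_bot ?_ ha₁.symm sqV
    rw [ha₂, ← D.map_c]
    exact sqA.map (yon S)
  have w' : (yon S).map t' ≫ a' = (yon S).map s' ≫ a' := by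
    refine sqV.hom_ext ?_ ?_
    · rw [Category.assoc, Category.assoc, ha₁, ← Functor.map_comp_assoc, ← Functor.map_comp_assoc,
        ht₁, hs₁, Functor.map_comp_assoc, Functor.map_comp_assoc, D.w]
    · rw [Category.assoc, Category.assoc, ha₂, ← Functor.map_comp, ← Functor.map_comp, ht₂, hs₂]
  have sqP := isPullback_map_self sqa
  have sqr : IsPullback ((yon S).map fR) (pullback.lift ((yon S).map t') ((yon S).map s') w')
      (pullback.lift ((yon S).map D.t) ((yon S).map D.s) D.w)
      (pullback.map a' a' D.a D.a ((yon S).map fA) ((yon S).map fA) vfst sqa.w.symm sqa.w.symm) := by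
    refine IsPullback.of_bot ?_ ?_ sqP
    · rw [pullback.lift_fst_assoc, pullback.lift_fst_assoc]
      exact (sqt.map (yon S)).paste_vert sqa
    · apply pullback.hom_ext
      · simp only [Category.assoc, pullback.lift_fst, ← Functor.map_comp]
        rw [pullback.lift_fst_assoc, ← Functor.map_comp, ht₁]
      · simp only [Category.assoc, pullback.lift_snd, ← Functor.map_comp]
        rw [pullback.lift_snd_assoc, ← Functor.map_comp, hs₁]
  let D' : Atlas gU' :=
    { A := A', R := R', hA := hA', hR := hR', a := a'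
      hae := repWith_of_isPullback sqa D.hae
      has := repWith_of_isPullback sqa D.has
      t := t', s := s', w := w'
      hre := repWith_of_isPullback sqr D.hre
      hrs := repWith_of_isPullback sqr D.hrs }
  have hc : D'.c = pullback.snd D.c u := (yon S).map_injective (by rw [D'.map_c]; exact ha₂)
  refine ⟨D', fA, fR, hc ▸ sqA, ?_, ha₁.symm, ht₁, hs₁⟩
  rw [hc]
  change IsPullback fR (t' ≫ pullback.snd D.c u) (D.t ≫ D.c) u
  rw [ht₂]
  exact sqR

/-- Normalizations of affine schemes in spaces commute with smooth base change. -/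
theorem isNormAff_baseChange [IsAffine U.left] [IsAffine U'.left] (hV : IsAlgSpace V)
    (hqc : IsQuasiCompactMor gU) (hqs : IsQuasiSeparatedMor gU) {N : Over S} {n : N ⟶ U}
    {g : V ⟶ (yon S).obj N} (h : IsNormAff gU n g) (u : U' ⟶ U) [Smooth u.left]
    {vfst : V' ⟶ V} {gU' : V' ⟶ (yon S).obj U'} (sqV : IsPullback vfst gU' gU ((yon S).map u))
    {N' : Over S} {nfst : N' ⟶ N} {n' : N' ⟶ U'} (sqN : IsPullback nfst n' n u)
    {g' : V' ⟶ (yon S).obj N'} (hg₁ : g' ≫ (yon S).map nfst = vfst ≫ g)
    (hg₂ : g' ≫ (yon S).map n' = gU') : IsNormAff gU' n' g' := by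
  obtain ⟨D⟩ := exists_atlas hV hqc hqs
  obtain ⟨D', fA, fR, sqA, sqR, hfa, ht, hs⟩ := exists_atlas_baseChange D u sqV
  have := h.1
  have := h.2.1
  have := D.hA
  have := D.hR
  have := D'.hA
  have := D'.hR
  have : IsAffine ((Over.forget S).obj D.A) := D.hA
  have : IsAffine ((Over.forget S).obj D.R) := D.hR
  have : IsAffine ((Over.forget S).obj N) := h.1
  have : IsAffine ((Over.forget S).obj U) := ‹IsAffine U.left›
  have : IsAffine ((Over.forget S).obj U') := ‹IsAffine U'.left›
  have hcl := isEqClosure_of_isNormAff D h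
  have hN' : IsAffine N'.left := by
    have : IsAffine ((Over.forget S).obj N) := h.1
    have : IsAffine ((Over.forget S).obj U) := ‹IsAffine U.left›
    have : IsAffine ((Over.forget S).obj U') := ‹IsAffine U'.left›
    exact IsAffine.of_isPullback (sqN.map (Over.forget S))
  have hn' : IsIntegralHom n'.left :=
    MorphismProperty.of_isPullback (P := @IsIntegralHom) (sqN.map (Over.forget S)) h.2.1
  refine isNormAff_of_isEqClosure D' hg₂ ?_
  have hlam := (yon S).map_preimage (D.a ≫ g)
  have hlam' := (yon S).map_preimage (D'.a ≫ g')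
  rw [IsEqClosure] at hcl ⊢
  set lam := (yon S).preimage (D.a ≫ g)
  set lam' := (yon S).preimage (D'.a ≫ g')
  have e₁ : lam' ≫ nfst = fA ≫ lam := (yon S).map_injective (by
    rw [Functor.map_comp, Functor.map_comp, hlam, hlam', Category.assoc, hg₁, ← Category.assoc,
      ← hfa, Category.assoc])
  have e₂ : lam ≫ n = D.c := (yon S).map_injective (by
    rw [Functor.map_comp, hlam, D.map_c, Category.assoc, h.2.2.1])
  have e₂' : lam' ≫ n' = D'.c := (yon S).map_injective (by
    rw [Functor.map_comp, hlam', D'.map_c, Category.assoc, hg₂])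
  have hφ : u.left.appTop.hom.Smooth :=
    (HasRingHomProperty.iff_of_isAffine (P := @Smooth) (f := u.left)).1 ‹_›
  have topEq : ∀ {X Y : Over S} {p q : X ⟶ Y}, p = q → p.left.appTop = q.left.appTop := fun h => by
    rw [h]
  refine injective_and_range_of_isPushout (φ := u.left.appTop) hφ (i := D.c.left.appTop)
    (α := D.t.left.appTop) (β := D.s.left.appTop) ?_
    (i' := D'.c.left.appTop) (p₁ := fA.left.appTop) ?_
    (α' := D'.t.left.appTop) (β' := D'.s.left.appTop) (p₂ := fR.left.appTop) ?_ ?_ ?_ ?_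
    (r := n.left.appTop) (j := lam.left.appTop) ?_ hcl.1 hcl.2
    (r' := n'.left.appTop) (q := nfst.left.appTop) ?_ (j' := lam'.left.appTop) ?_ ?_
  · rw [← Scheme.Hom.comp_appTop, ← Scheme.Hom.comp_appTop, ← Over.comp_left, ← Over.comp_left, D.t_c]
  · exact (isPushout_appTop_of_isPullback (sqA.map (Over.forget S))).flip
  · rw [← Scheme.Hom.comp_appTop, ← Scheme.Hom.comp_appTop, ← Over.comp_left, ← Over.comp_left]
    exact (isPushout_appTop_of_isPullback (sqR.map (Over.forget S))).flip
  · rw [← Scheme.Hom.comp_appTop, ← Scheme.Hom.comp_appTop, ← Over.comp_left, ← Over.comp_left, ht]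
  · rw [← Scheme.Hom.comp_appTop, ← Scheme.Hom.comp_appTop, ← Over.comp_left, ← Over.comp_left, hs]
  · rw [← Scheme.Hom.comp_appTop, ← Scheme.Hom.comp_appTop, ← Over.comp_left, ← Over.comp_left, D'.t_c]
  · rw [← Scheme.Hom.comp_appTop, ← Over.comp_left, e₂]
  · exact (isPushout_appTop_of_isPullback (sqN.map (Over.forget S))).flip
  · rw [← Scheme.Hom.comp_appTop, ← Scheme.Hom.comp_appTop, ← Over.comp_left, ← Over.comp_left, e₁]
  · rw [← Scheme.Hom.comp_appTop, ← Over.comp_left, e₂']

end Groth.Agent.NormEt14
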