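import Groth.Agent.Lib.NormEt14.Global

/-!
# Smooth base change of locally normalised factorisations
-/

universe u

set_option backward.isDefEq.respectTransparency.types false
set_option linter.unusedVariables false

open CategoryTheory CategoryTheory.Limits AlgebraicGeometry AlgSp Opposite
open Groth.Agent.AlgSpace Groth.Agent.AlgSpDescent

namespace Groth.Agent.NormEt14

variable {S : Scheme.{u}} {V G X' V₂ G₂ X₂ : Sp S} {f : V ⟶ G} {ν : X' ⟶ G} {f' : V ⟶ X'}

theorem normAt_of_smooth (hV : IsAlgSpace V) (hG : IsAlgSpace G) (hqc : IsQuasiCompactMor f)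
    (hqs : IsQuasiSeparatedMor f) {W W' : Over S} [IsAffine W.left] [IsAffine W'.left]
    {w : (yon S).obj W ⟶ G} (h : NormAt f ν f' w) (hν : IsIntegralMor ν) (hfν : f' ≫ ν = f)
    (u : W' ⟶ W) [Smooth u.left] {φ : G₂ ⟶ G} {w' : (yon S).obj W' ⟶ G₂}
    (hw' : (yon S).map u ≫ w = w' ≫ φ) {vfst : V₂ ⟶ V} {f₂ : V₂ ⟶ G₂}
    (sqV : IsPullback vfst f₂ f φ) {ρ : X₂ ⟶ X'} {ν₂ : X₂ ⟶ G₂} (sqX : IsPullback ρ ν₂ ν φ)
    {f₂' : V₂ ⟶ X₂} (e₁ : f₂' ≫ ν₂ = f₂) (e₂ : f₂' ≫ ρ = vfst ≫ f') :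
    NormAt f₂ ν₂ f₂' w' := by
  have hν₂ : RepWith @IsIntegralHom ν₂ := repWith_of_isPullback sqX (isIntegralMor_iff_repWith.1 hν)
  have sqN := hν₂.1.isPullback w'
  have sqP := IsPullback.of_hasPullback f₂ w'
  let g : pullback f₂ w' ⟶ (yon S).obj (hν₂.1.pullback w') :=
    sqN.lift (pullback.fst f₂ w' ≫ f₂') (pullback.snd f₂ w')
      (by rw [Category.assoc, e₁, pullback.condition])
  refine ⟨_, hν₂.1.snd w', hν₂.1.fst w', pullback f₂ w', pullback.fst f₂ w', pullback.snd f₂ w', g,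
    sqN, sqP, sqN.lift_fst _ _ _, sqN.lift_snd _ _ _, ?_⟩
  refine h.restrict hV hG hqc hqs u hw' (sqN.paste_horiz sqX) (sqP.paste_horiz sqV) ?_ (sqN.lift_snd _ _ _)
  rw [← Category.assoc, sqN.lift_fst, Category.assoc, e₂, Category.assoc]

/-- Locally normalised factorisations are stable under smooth base change. -/
theorem isLocNorm_baseChange (hV : IsAlgSpace V) (hG : IsAlgSpace G) (hG₂ : IsAlgSpace G₂)
    (hqc : IsQuasiCompactMor f) (hqs : IsQuasiSeparatedMor f) (h : IsLocNorm f ν f')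
    {φ : G₂ ⟶ G} (hφ : LocP @Smooth φ) {vfst : V₂ ⟶ V} {f₂ : V₂ ⟶ G₂}
    (sqV : IsPullback vfst f₂ f φ) {ρ : X₂ ⟶ X'} {ν₂ : X₂ ⟶ G₂} (sqX : IsPullback ρ ν₂ ν φ)
    {f₂' : V₂ ⟶ X₂} (e₁ : f₂' ≫ ν₂ = f₂) (e₂ : f₂' ≫ ρ = vfst ≫ f') :
    IsLocNorm f₂ ν₂ f₂' := by
  obtain ⟨hfν, hν, κ, W, ψ, hW, hψe, hψs, hAt⟩ := h
  have sqP := IsPullback.of_hasPullback φ ψ
  have hP : IsAlgSpace (pullback φ ψ) := isAlgSpace_pullback hG hG₂ (IsAlgSpace.yon_obj _) sqP
  obtain ⟨T, p, hpe, hps⟩ := hP.atlas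
  obtain ⟨c, hc⟩ := (yon S).map_surjective (p ≫ pullback.snd φ ψ)
  let b : (yon S).obj T ⟶ G₂ := p ≫ pullback.fst φ ψ
  have hbe : RepWith @Etale b := repWith_comp hpe (repWith_of_isPullback sqP.flip hψe)
  have hbs : RepWith @Surjective b := repWith_comp hps (repWith_of_isPullback sqP.flip hψs)
  have hbc : b ≫ φ = (yon S).map c ≫ ψ := by rw [hc, Category.assoc, Category.assoc, pullback.condition]
  have hcs : Smooth c.left := hφ b ψ c hbe hψe hbc
  have hι : ∀ k, IsOpenImmersion (coprodOverι W k).left := isOpenImmersion_coprodOverι W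
  let κ' := {O : T.left.affineOpens // ∃ k, ∀ x ∈ O.1, c.left x ∈ (coprodOverι W k).left.opensRange}
  let W' : κ' → Over S := fun O => Over.mk (O.1.1.ι ≫ T.hom)
  let q : coprodOver W' ⟶ T := Over.homMk (Sigma.desc fun O => O.1.1.ι)
    (by apply Sigma.hom_ext; intro O; simp [W'])
  have hqe : Etale q.left :=
    IsZariskiLocalAtSource.sigmaDesc (P := @Etale) fun O => inferInstanceAs (Etale O.1.1.ι)
  have hqs' : Surjective q.left := ⟨fun t => by
    obtain ⟨k, v, hv⟩ := (sigmaOpenCover (fun j => (W j).left)).exists_eq (c.left t)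
    have := isOpenImmersion_coprodOverι W k
    obtain ⟨U, hU, ht, hUle⟩ := exists_isAffineOpen_mem_and_subset (X := T.left) (x := t)
      (U := c.left ⁻¹ᵁ (coprodOverι W k).left.opensRange) ⟨v, hv⟩
    refine ⟨(Sigma.ι (fun O : κ' => (W' O).left) ⟨⟨U, hU⟩, k, fun x hx => hUle hx⟩) ⟨t, ht⟩, ?_⟩
    rw [← Scheme.Hom.comp_apply]
    simp [q, W']⟩
  refine ⟨e₁, isIntegralMor_iff_repWith.2 (repWith_of_isPullback sqX (isIntegralMor_iff_repWith.1 hν)),
    κ', W', (yon S).map q ≫ b, fun O => O.1.2,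
    repWith_comp ((repWith_yon_map_iff _ _).2 hqe) hbe,
    repWith_comp ((repWith_yon_map_iff _ _).2 hqs') hbs, fun O => ?_⟩
  obtain ⟨k, hk⟩ := O.2
  have := hW k
  have : IsAffine (W' O).left := O.1.2
  have := isOpenImmersion_coprodOverι W k
  let uc : (W' O).left ⟶ (W k).left := IsOpenImmersion.lift (coprodOverι W k).left (O.1.1.ι ≫ c.left) (by
    rintro _ ⟨x, rfl⟩
    exact hk x.1 x.2)
  have huc : uc ≫ (coprodOverι W k).left = O.1.1.ι ≫ c.left := IsOpenImmersion.lift_fac _ _ _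
  let u : W' O ⟶ W k := Over.homMk uc (by
    rw [← Over.w (coprodOverι W k), ← Category.assoc, huc, Category.assoc, Over.w c]
    rfl)
  have : Smooth u.left := by
    have : Smooth (uc ≫ (coprodOverι W k).left) := by
      rw [huc]
      have : Smooth O.1.1.ι := inferInstance
      infer_instance
    exact MorphismProperty.of_postcomp (W := @Smooth) (W' := MorphismProperty.monomorphisms Scheme.{u})
      uc (coprodOverι W k).left (inferInstanceAs (Mono (coprodOverι W k).left)) this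
  have hcomp : (yon S).map u ≫ (yon S).map (coprodOverι W k) ≫ ψ =
      ((yon S).map (coprodOverι W' O) ≫ (yon S).map q ≫ b) ≫ φ := by
    simp only [Category.assoc, hbc, ← Functor.map_comp_assoc]
    congr 2
    refine Over.OverMorphism.ext ?_
    simp only [Over.comp_left]
    exact huc.trans (by simp [q, W', Category.assoc])
  exact normAt_of_smooth hV hG hqc hqs (hAt k) hν hfν u hcomp sqV sqX e₁ e₂

end Groth.Agent.NormEt14
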