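import Groth.Agent.Lib.NormEt14.Atlas
import Groth.Agent.Lib.AlgSpace.Quot
import Groth.Agent.Lib.SchImage14.Space
import Groth.Agent.Lib.EtSmLoc15.Space

/-!
# Existence of locally normalised factorisations, by descent from an atlas
-/

universe u

set_option backward.isDefEq.respectTransparency.types false
set_option linter.unusedVariables false

open CategoryTheory CategoryTheory.Limits AlgebraicGeometry AlgSp Opposite
open Groth.Agent.AlgSpace Groth.Agent.AlgSpDescent Groth.Agent.EtSmLoc15 Groth.Agent.SchImage14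

namespace Groth.Agent.NormEt14

variable {S : Scheme.{u}} {V : Sp S} {U T N M : Over S} {fU : V ⟶ (yon S).obj U} {n : N ⟶ U}
  {gN : V ⟶ (yon S).obj N}

/-- Maps out of a smooth pullback of the normalization are determined on the pulled back space. -/
theorem existsUnique_over (hV : IsAlgSpace V) (hqc : IsQuasiCompactMor fU)
    (hqs : IsQuasiSeparatedMor fU) (h : IsLocNorm fU ((yon S).map n) gN) {r : T ⟶ U} (hr : Smooth r.left)
    {l : M ⟶ N} {m : M ⟶ T} (sqM : IsPullback l m n r) {P : Sp S} {A : P ⟶ V}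
    {B : P ⟶ (yon S).obj T} (sqP : IsPullback A B fU ((yon S).map r)) {g : P ⟶ (yon S).obj M}
    (hg₁ : g ≫ (yon S).map l = A ≫ gN) (hg₂ : g ≫ (yon S).map m = B) {r' : T ⟶ U}
    {k : P ⟶ (yon S).obj N} (hk : k ≫ (yon S).map n = B ≫ (yon S).map r') :
    ∃! x : M ⟶ N, g ≫ (yon S).map x = k ∧ x ≫ n = m ≫ r' := by
  have hn : IsIntegralHom n.left :=
    (repWith_yon_map_iff _ _).1 (isIntegralMor_iff_repWith.1 h.2.1)
  have hP := isAlgSpace_pullback (IsAlgSpace.yon_obj U) hV (IsAlgSpace.yon_obj T) sqP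
  have hN : IsRelNormalization B ((yon S).map m) g := isRelNormalization_of_isLocNorm hP (IsAlgSpace.yon_obj T)
    (isQuasiCompactMor_of_isPullback sqP hqc) (isQuasiSeparatedMor_of_isPullback sqP hqs)
    (isLocNorm_baseChange hV (IsAlgSpace.yon_obj U) (IsAlgSpace.yon_obj T) hqc hqs h
      (locP_smooth_yon_map r hr) sqP (sqM.map (yon S)) hg₂ hg₁)
  have sqQ := IsPullback.of_hasPullback n r'
  have hQ : IsIntegralHom (pullback.snd n r').left :=
    MorphismProperty.of_isPullback (P := @IsIntegralHom) (sqQ.map (Over.forget S)) hn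
  have sqQ' := sqQ.map (yon S)
  obtain ⟨c, ⟨hc₁, hc₂⟩, hcu⟩ := hN.2.2 (IsAlgSpace.yon_obj _) ((yon S).map (pullback.snd n r'))
    (sqQ'.lift k B hk) (isIntegralMor_iff_repWith.2 ((repWith_yon_map_iff _ _).2 hQ))
    (sqQ'.lift_snd _ _ _)
  obtain ⟨c, rfl⟩ := (yon S).map_surjective c
  have hc₂' : c ≫ pullback.snd n r' = m := (yon S).map_injective (by rw [Functor.map_comp, hc₂])
  refine ⟨c ≫ pullback.fst n r', ⟨?_, ?_⟩, ?_⟩
  · rw [Functor.map_comp, ← Category.assoc, hc₁, sqQ'.lift_fst]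
  · rw [Category.assoc, sqQ.w, ← Category.assoc, hc₂']
  · rintro x ⟨hx₁, hx₂⟩
    have e := hcu ((yon S).map (pullback.lift x m hx₂)) ⟨sqQ'.hom_ext
      (by rw [Category.assoc, ← Functor.map_comp, pullback.lift_fst, hx₁, sqQ'.lift_fst])
      (by rw [Category.assoc, ← Functor.map_comp, pullback.lift_snd, hg₂, sqQ'.lift_snd]),
      by rw [← Functor.map_comp, pullback.lift_snd]⟩
    rw [← (yon S).map_injective e, pullback.lift_fst]

variable {G : Sp S} (f : V ⟶ G)

/-- A quasi-compact and quasi-separated map of spaces has a locally normalised factorisation. -/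
theorem exists_isLocNorm (hV : IsAlgSpace V) (hG : IsAlgSpace G) (hqc : IsQuasiCompactMor f)
    (hqs : IsQuasiSeparatedMor f) :
    ∃ (X' : Sp S) (ν : X' ⟶ G) (f' : V ⟶ X'), IsAlgSpace X' ∧ IsLocNorm f ν f' := by
  obtain ⟨κ, W, φ, hW, hφe, hφs⟩ := exists_affines_atlas hG
  obtain ⟨N, n, gN, hN⟩ := exists_over_atlas f hV hG hqc hqs W hW φ
  have sqU := IsPullback.of_hasPullback f φ
  have hVU : IsAlgSpace (pullback f φ) :=
    isAlgSpace_pullback hG hV (IsAlgSpace.yon_obj _) sqU
  have hqcU := isQuasiCompactMor_of_isPullback sqU hqc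
  have hqsU := isQuasiSeparatedMor_of_isPullback sqU hqs
  have hnI : IsIntegralMor ((yon S).map n) := hN.2.1
  -- the relation on the atlas
  obtain ⟨R, p, q, sqR⟩ : ∃ (R : Over S) (p q : R ⟶ coprodOver W),
      IsPullback ((yon S).map p) ((yon S).map q) φ φ :=
    ⟨_, (yon S).preimage (hφe.1.fst φ), hφe.1.snd φ, by
      rw [Functor.map_preimage]; exact hφe.1.isPullback φ⟩
  have hpe : Etale p.left := (repWith_yon_map_iff _ _).1 (repWith_of_isPullback sqR.flip hφe)
  have hqe : Etale q.left := hφe.2 _ _ _ sqR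
  have hR : ∀ {T : Over S} (a b : T ⟶ R), a ≫ p = b ≫ p → a ≫ q = b ≫ q → a = b := fun a b h₁ h₂ =>
    (yon S).map_injective (sqR.hom_ext (by rw [← Functor.map_comp, h₁, Functor.map_comp])
      (by rw [← Functor.map_comp, h₂, Functor.map_comp]))
  obtain ⟨e, he⟩ := (yon S).map_surjective (sqR.lift (𝟙 _) (𝟙 _) rfl)
  have he₁ : e ≫ p = 𝟙 _ := (yon S).map_injective (by
    rw [Functor.map_comp, he, sqR.lift_fst, (yon S).map_id])
  have he₂ : e ≫ q = 𝟙 _ := (yon S).map_injective (by
    rw [Functor.map_comp, he, sqR.lift_snd, (yon S).map_id])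
  obtain ⟨σ, hσ⟩ := (yon S).map_surjective (sqR.lift ((yon S).map q) ((yon S).map p) sqR.w.symm)
  have hσ₁ : σ ≫ p = q := (yon S).map_injective (by rw [Functor.map_comp, hσ, sqR.lift_fst])
  have hσ₂ : σ ≫ q = p := (yon S).map_injective (by rw [Functor.map_comp, hσ, sqR.lift_snd])
  -- the relation on the normalization
  let t := pullback.fst n p
  let m := pullback.snd n p
  have sqt : IsPullback t m n p := IsPullback.of_hasPullback n p
  have sqt' := sqt.map (yon S)
  let a : pullback (pullback.snd f φ) ((yon S).map p) ⟶ pullback f φ := pullback.fst _ _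
  let b : pullback (pullback.snd f φ) ((yon S).map p) ⟶ (yon S).obj R := pullback.snd _ _
  have sqa : IsPullback a b (pullback.snd f φ) ((yon S).map p) := IsPullback.of_hasPullback _ _
  let g : pullback (pullback.snd f φ) ((yon S).map p) ⟶ (yon S).obj (pullback n p) :=
    sqt'.lift (a ≫ gN) b (by rw [Category.assoc, hN.1, sqa.w])
  let a' : pullback (pullback.snd f φ) ((yon S).map p) ⟶ pullback f φ :=
    pullback.lift (a ≫ pullback.fst f φ) (b ≫ (yon S).map q) (by
      rw [Category.assoc, Category.assoc, pullback.condition, ← sqR.w, reassoc_of% sqa.w])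
  have hps : Smooth p.left := inferInstance
  obtain ⟨s, ⟨hs₁, hs₂⟩, -⟩ := existsUnique_over hVU hqcU hqsU hN hps sqt sqa
    (sqt'.lift_fst _ _ _) (sqt'.lift_snd _ _ _) (g := g) (r' := q) (k := a' ≫ gN)
    (by rw [Category.assoc, hN.1]; exact pullback.lift_snd _ _ _)
  have hts : t ≫ n = m ≫ p := sqt.w
  -- the transport of points of the pulled back space
  have key : ∀ {Q : Sp S} (A A' : Q ⟶ pullback f φ) (B : Q ⟶ (yon S).obj R)
      (gg : Q ⟶ (yon S).obj (pullback n p)), A ≫ pullback.fst f φ = A' ≫ pullback.fst f φ →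
      A ≫ pullback.snd f φ = B ≫ (yon S).map p → A' ≫ pullback.snd f φ = B ≫ (yon S).map q →
      gg ≫ (yon S).map t = A ≫ gN → gg ≫ (yon S).map m = B → gg ≫ (yon S).map s = A' ≫ gN := by
    intro Q A A' B gg h₁ h₂ h₃ h₄ h₅
    let l := sqa.lift A B h₂
    have hl : gg = l ≫ g := sqt'.hom_ext
      (by rw [h₄, Category.assoc, sqt'.lift_fst, sqa.lift_fst_assoc])
      (by rw [h₅, Category.assoc, sqt'.lift_snd, sqa.lift_snd])
    rw [hl, Category.assoc, hs₁, ← Category.assoc]
    refine congrArg (· ≫ gN) (pullback.hom_ext ?_ ?_)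
    · rw [Category.assoc, pullback.lift_fst, sqa.lift_fst_assoc, h₁]
    · rw [Category.assoc, pullback.lift_snd, sqa.lift_snd_assoc, h₃]
  -- reflexivity
  let rr : N ⟶ pullback n p := pullback.lift (𝟙 N) (n ≫ e) (by rw [Category.assoc, he₁]; simp)
  have hrr₁ : rr ≫ t = 𝟙 N := pullback.lift_fst _ _ _
  have hrr₂ : rr ≫ m = n ≫ e := pullback.lift_snd _ _ _
  have hrefl : rr ≫ s = 𝟙 N := by
    have hgr : gN ≫ (yon S).map (rr ≫ s) = gN := by
      rw [Functor.map_comp, ← Category.assoc, key (𝟙 _) (𝟙 _) (pullback.snd f φ ≫ (yon S).map e)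
        (gN ≫ (yon S).map rr) rfl ?_ ?_ ?_ ?_, Category.id_comp]
      · rw [Category.assoc, ← Functor.map_comp, he₁, (yon S).map_id]; simp
      · rw [Category.assoc, ← Functor.map_comp, he₂, (yon S).map_id]; simp
      · rw [Category.assoc, ← Functor.map_comp, hrr₁, (yon S).map_id]; simp
      · rw [Category.assoc, ← Functor.map_comp, hrr₂, Functor.map_comp, ← Category.assoc, hN.1]
    refine (existsUnique_over hVU hqcU hqsU hN (r := 𝟙 _) (r' := 𝟙 _) (l := 𝟙 N) (m := n)
      (A := 𝟙 _) (B := pullback.snd f φ) (g := gN) (k := gN) (by rw [Over.id_left]; infer_instance)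
      (IsPullback.of_horiz_isIso ⟨by simp⟩) (IsPullback.of_horiz_isIso ⟨by simp⟩) (by simp) hN.1
      (by rw [hN.1, (yon S).map_id]; simp)).unique ⟨hgr, ?_⟩ ⟨by simp, by simp⟩
    rw [Category.assoc, hs₂, reassoc_of% hrr₂, he₂]
  -- symmetry
  let τ : pullback n p ⟶ pullback n p := pullback.lift s (m ≫ σ) (by rw [hs₂, Category.assoc, hσ₁])
  have hτ₁ : τ ≫ t = s := pullback.lift_fst _ _ _
  have hτ₂ : τ ≫ m = m ≫ σ := pullback.lift_snd _ _ _
  have hsymm : τ ≫ s = t := by
    refine (existsUnique_over hVU hqcU hqsU hN hps sqt sqa (sqt'.lift_fst _ _ _)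
      (sqt'.lift_snd _ _ _) (g := g) (r' := p) (k := a ≫ gN)
      (by rw [Category.assoc, hN.1, sqa.w])).unique ⟨?_, ?_⟩ ⟨sqt'.lift_fst _ _ _, hts⟩
    · rw [Functor.map_comp, ← Category.assoc]
      refine key a' a (b ≫ (yon S).map σ) _ (pullback.lift_fst _ _ _) ?_ ?_ ?_ ?_
      · rw [Category.assoc, ← Functor.map_comp, hσ₁]; exact pullback.lift_snd _ _ _
      · rw [Category.assoc, ← Functor.map_comp, hσ₂]; exact sqa.w
      · rw [Category.assoc, ← Functor.map_comp, hτ₁, hs₁]
      · rw [Category.assoc, ← Functor.map_comp, hτ₂, Functor.map_comp, sqt'.lift_snd_assoc]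
    · rw [Category.assoc, hs₂, reassoc_of% hτ₂, hσ₂]
  -- transitivity
  let R3 := pullback q p
  let u₁ : R3 ⟶ R := pullback.fst q p
  let u₂ : R3 ⟶ R := pullback.snd q p
  have hu12 : u₁ ≫ q = u₂ ≫ p := pullback.condition
  obtain ⟨c, hc⟩ := (yon S).map_surjective (sqR.lift ((yon S).map (u₁ ≫ p)) ((yon S).map (u₂ ≫ q)) (by
    rw [Functor.map_comp, Category.assoc, sqR.w, ← Functor.map_comp_assoc, pullback.condition,
      Functor.map_comp_assoc, sqR.w, ← Functor.map_comp_assoc]))
  have hc₁ : c ≫ p = u₁ ≫ p := (yon S).map_injective (by rw [Functor.map_comp, hc, sqR.lift_fst])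
  have hc₂ : c ≫ q = u₂ ≫ q := (yon S).map_injective (by rw [Functor.map_comp, hc, sqR.lift_snd])
  let M3 := pullback n (u₁ ≫ p)
  let l3 : M3 ⟶ N := pullback.fst n (u₁ ≫ p)
  let m3 : M3 ⟶ R3 := pullback.snd n (u₁ ≫ p)
  have sq3 : IsPullback l3 m3 n (u₁ ≫ p) := IsPullback.of_hasPullback _ _
  let z₁ : M3 ⟶ pullback n p := pullback.lift l3 (m3 ≫ u₁) (by rw [sq3.w, Category.assoc])
  have hz₁ : z₁ ≫ m = m3 ≫ u₁ := pullback.lift_snd _ _ _
  let z₂ : M3 ⟶ pullback n p := pullback.lift (z₁ ≫ s) (m3 ≫ u₂) (by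
    rw [Category.assoc, hs₂, reassoc_of% hz₁, pullback.condition, Category.assoc])
  have hz₂ : z₂ ≫ m = m3 ≫ u₂ := pullback.lift_snd _ _ _
  let z₃ : M3 ⟶ pullback n p := pullback.lift l3 (m3 ≫ c) (by rw [sq3.w, Category.assoc, hc₁])
  have hz₃ : z₃ ≫ m = m3 ≫ c := pullback.lift_snd _ _ _
  have htrans : z₂ ≫ s = z₃ ≫ s := by
    have hu : Smooth (u₁ ≫ p).left := by
      have : Etale u₁.left := MorphismProperty.of_isPullback (P := @Etale)
        ((IsPullback.of_hasPullback q p).map (Over.forget S)).flip hpe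
      rw [Over.comp_left]; infer_instance
    let A := pullback.fst (pullback.snd f φ) ((yon S).map (u₁ ≫ p))
    let B := pullback.snd (pullback.snd f φ) ((yon S).map (u₁ ≫ p))
    have sqA : IsPullback A B (pullback.snd f φ) ((yon S).map (u₁ ≫ p)) := IsPullback.of_hasPullback _ _
    let g3 := (sq3.map (yon S)).lift (A ≫ gN) B (by rw [Category.assoc, hN.1, sqA.w])
    have hg3₁ : g3 ≫ (yon S).map l3 = A ≫ gN := (sq3.map (yon S)).lift_fst _ _ _
    have hg3₂ : g3 ≫ (yon S).map m3 = B := (sq3.map (yon S)).lift_snd _ _ _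
    let A₂ := pullback.lift (A ≫ pullback.fst f φ) (B ≫ (yon S).map (u₁ ≫ q)) (by
      rw [Category.assoc, Category.assoc, pullback.condition, (yon S).map_comp u₁ q, Category.assoc, ← sqR.w,
        ← Functor.map_comp_assoc, reassoc_of% sqA.w])
    let A₃ := pullback.lift (A ≫ pullback.fst f φ) (B ≫ (yon S).map (u₂ ≫ q)) (by
      rw [Category.assoc, Category.assoc, pullback.condition, (yon S).map_comp u₂ q, Category.assoc, ← sqR.w,
        ← Functor.map_comp_assoc, ← hu12, (yon S).map_comp u₁ q, Category.assoc, ← sqR.w,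
        ← Functor.map_comp_assoc, reassoc_of% sqA.w])
    refine (existsUnique_over hVU hqcU hqsU hN hu sq3 sqA hg3₁ hg3₂ (r' := u₂ ≫ q) (k := A₃ ≫ gN)
      (by rw [Category.assoc, hN.1]; exact pullback.lift_snd _ _ _)).unique ⟨?_, ?_⟩ ⟨?_, ?_⟩
    · have e₁ : (g3 ≫ (yon S).map z₁) ≫ (yon S).map s = A₂ ≫ gN := by
        refine key A A₂ (B ≫ (yon S).map u₁) _ (pullback.lift_fst _ _ _).symm ?_ ?_ ?_ ?_
        · rw [Category.assoc, ← Functor.map_comp]; exact sqA.w
        · rw [Category.assoc, ← Functor.map_comp]; exact pullback.lift_snd _ _ _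
        · rw [Category.assoc, ← Functor.map_comp, pullback.lift_fst, hg3₁]
        · rw [Category.assoc, ← Functor.map_comp, hz₁, (yon S).map_comp m3 u₁, reassoc_of% hg3₂]
      rw [(yon S).map_comp z₂ s, ← Category.assoc]
      refine key A₂ A₃ (B ≫ (yon S).map u₂) _
        ((pullback.lift_fst _ _ _).trans (pullback.lift_fst _ _ _).symm) ?_ ?_ ?_ ?_
      · rw [Category.assoc, ← Functor.map_comp, ← pullback.condition]; exact pullback.lift_snd _ _ _
      · rw [Category.assoc, ← Functor.map_comp]; exact pullback.lift_snd _ _ _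
      · rw [Category.assoc, ← Functor.map_comp, pullback.lift_fst, (yon S).map_comp z₁ s, ← Category.assoc, e₁]
      · rw [Category.assoc, ← Functor.map_comp, hz₂, (yon S).map_comp m3 u₂, reassoc_of% hg3₂]
    · rw [Category.assoc, hs₂, reassoc_of% hz₂]
    · rw [(yon S).map_comp z₃ s, ← Category.assoc]
      refine key A A₃ (B ≫ (yon S).map c) _ (pullback.lift_fst _ _ _).symm ?_ ?_ ?_ ?_
      · rw [Category.assoc, ← Functor.map_comp, hc₁]; exact sqA.w
      · rw [Category.assoc, ← Functor.map_comp, hc₂]; exact pullback.lift_snd _ _ _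
      · rw [Category.assoc, ← Functor.map_comp, pullback.lift_fst, hg3₁]
      · rw [Category.assoc, ← Functor.map_comp, hz₃, (yon S).map_comp m3 c, reassoc_of% hg3₂]
    · rw [Category.assoc, hs₂, reassoc_of% hz₃, hc₂]
  -- the equivalence relation
  have hrel : IsEqvRel s t := by
    refine ⟨fun T r r' h₁ h₂ => pullback.hom_ext h₁ (hR _ _ ?_ ?_), fun T =>
      ⟨fun x => ⟨x ≫ rr, by rw [Category.assoc, hrr₁, Category.comp_id],
        by rw [Category.assoc, hrefl, Category.comp_id]⟩, ?_, ?_⟩⟩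
    · rw [Category.assoc, Category.assoc, ← hts, reassoc_of% h₁]
    · rw [Category.assoc, Category.assoc, ← hs₂, reassoc_of% h₂]
    · rintro x y ⟨r, rfl, rfl⟩
      exact ⟨r ≫ τ, by rw [Category.assoc, hτ₁], by rw [Category.assoc, hsymm]⟩
    · rintro x y z ⟨r, rfl, rfl⟩ ⟨r', hr', rfl⟩
      let w : T ⟶ R3 := pullback.lift (r ≫ m) (r' ≫ m) (by
        rw [Category.assoc, Category.assoc, ← hs₂, ← hts, ← reassoc_of% hr'])
      have hw₁ : w ≫ u₁ = r ≫ m := pullback.lift_fst _ _ _
      have hw₂ : w ≫ u₂ = r' ≫ m := pullback.lift_snd _ _ _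
      let v : T ⟶ M3 := pullback.lift (r ≫ t) w (by
        rw [Category.assoc, hts, reassoc_of% hw₁])
      have hv₁ : v ≫ l3 = r ≫ t := pullback.lift_fst _ _ _
      have hv₂ : v ≫ m3 = w := pullback.lift_snd _ _ _
      have hvz₁ : v ≫ z₁ = r := pullback.hom_ext (by rw [Category.assoc, pullback.lift_fst, hv₁])
        (by rw [Category.assoc, pullback.lift_snd, reassoc_of% hv₂, hw₁])
      have hvz₂ : v ≫ z₂ = r' := pullback.hom_ext
        (by rw [Category.assoc, pullback.lift_fst, reassoc_of% hvz₁]; exact hr'.symm)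
        (by rw [Category.assoc, pullback.lift_snd, reassoc_of% hv₂, hw₂])
      refine ⟨v ≫ z₃, by rw [Category.assoc, pullback.lift_fst, hv₁], ?_⟩
      rw [Category.assoc, ← htrans, reassoc_of% hvz₂]
  -- the quotient
  have hσσ : σ ≫ σ = 𝟙 R := hR _ _ (by rw [Category.assoc, hσ₁, hσ₂, Category.id_comp])
    (by rw [Category.assoc, hσ₂, hσ₁, Category.id_comp])
  have hττ : τ ≫ τ = 𝟙 _ := pullback.hom_ext
    (by rw [Category.assoc, hτ₁, hsymm, Category.id_comp])
    ((Category.assoc τ τ m).trans ((congrArg (τ ≫ ·) hτ₂).trans (((Category.assoc τ m σ).symm.trans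
      (congrArg (· ≫ σ) hτ₂)).trans ((Category.assoc m σ σ).trans ((congrArg (m ≫ ·) hσσ).trans
        ((Category.comp_id m).trans (Category.id_comp m).symm))))))
  have hτi : IsIso τ := ⟨τ, hττ, hττ⟩
  have hte : Etale t.left :=
    MorphismProperty.of_isPullback (P := @Etale) (sqt.map (Over.forget S)).flip hpe
  have hse : Etale s.left := by
    rw [← hτ₁, Over.comp_left]
    have : IsIso τ.left := inferInstanceAs (IsIso ((Over.forget S).map τ))
    infer_instance
  obtain ⟨wπ, ⟨hcol⟩⟩ := nonempty_isColimit_quot s t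
  let π := (QuotSh.repIsoUliftYoneda Scheme.fppfPrecoverage N).inv ≫
    QuotSh.quotπ Scheme.fppfPrecoverage s t
  have : Sheaf.IsLocallySurjective π := isLocallySurjective_quotπ s t
  have sqπ : IsPullback ((yon S).map t) ((yon S).map s) π π := isPullback_of_isEqvRel hrel wπ hcol
  obtain ⟨hF, hπe, hπs⟩ := isAlgSpace_of_etale_kernelPair sqπ hte hse
  have : Epi π := Sheaf.epi_of_isLocallySurjective' _
  have hνw : (yon S).map s ≫ (yon S).map n ≫ φ = (yon S).map t ≫ (yon S).map n ≫ φ := by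
    rw [← Functor.map_comp_assoc, ← Functor.map_comp_assoc, hs₂, hts, Functor.map_comp,
      Functor.map_comp, Category.assoc, Category.assoc, sqR.w]
  obtain ⟨ν, hν⟩ := Cofork.IsColimit.desc' hcol ((yon S).map n ≫ φ) hνw
  change π ≫ ν = _ at hν
  have sqν : IsPullback π ((yon S).map n) ν φ := by
    let cc : (yon S).obj N ⟶ pullback ν φ := pullback.lift π ((yon S).map n) hν
    have hm : Mono cc := mono_of_yon _ fun T x y hxy => by
      obtain ⟨x, rfl⟩ := (yon S).map_surjective x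
      obtain ⟨y, rfl⟩ := (yon S).map_surjective y
      have h₁ := hxy =≫ pullback.fst ν φ
      have h₂ := hxy =≫ pullback.snd ν φ
      simp only [Category.assoc, cc, pullback.lift_fst, pullback.lift_snd, ← Functor.map_comp] at h₁ h₂
      replace h₂ := (yon S).map_injective h₂
      obtain ⟨r, hr⟩ := (yon S).map_surjective (sqπ.lift ((yon S).map x) ((yon S).map y) h₁)
      have hr₁ : r ≫ t = x := (yon S).map_injective (by rw [Functor.map_comp, hr, sqπ.lift_fst])
      have hr₂ : r ≫ s = y := (yon S).map_injective (by rw [Functor.map_comp, hr, sqπ.lift_snd])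
      have hp' : (r ≫ m) ≫ p = (x ≫ n ≫ e) ≫ p := by
        simp only [Category.assoc]
        rw [← hts, reassoc_of% hr₁, he₁, Category.comp_id]
      have hq' : (r ≫ m) ≫ q = (x ≫ n ≫ e) ≫ q := by
        simp only [Category.assoc]
        rw [← hs₂, reassoc_of% hr₂, he₂, Category.comp_id, h₂]
      have hrx : r = x ≫ rr := pullback.hom_ext
        (by rw [Category.assoc, hrr₁, Category.comp_id, hr₁])
        ((hR _ _ hp' hq').trans ((congrArg (x ≫ ·) hrr₂.symm).trans (Category.assoc x rr m).symm))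
      rw [← hr₂, hrx, Category.assoc, hrefl, Category.comp_id]
    have : Sheaf.IsLocallySurjective cc := isLocallySurjective_of_lifts _ fun T z => by
      obtain ⟨T', v, l, h₁, h₂, h₃, hl⟩ := exists_single_cover_lift π (z ≫ pullback.fst ν φ)
      obtain ⟨x, rfl⟩ := (yon S).map_surjective l
      obtain ⟨y, hy⟩ := (yon S).map_surjective (z ≫ pullback.snd ν φ)
      obtain ⟨r, hr⟩ := (yon S).map_surjective (sqR.lift ((yon S).map (x ≫ n)) ((yon S).map (v ≫ y)) (by
        rw [Functor.map_comp, Category.assoc, ← hν, ← Category.assoc, hl, Category.assoc,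
          Category.assoc, pullback.condition, Functor.map_comp, hy]
        simp only [Category.assoc]))
      have hr₁ : r ≫ p = x ≫ n := (yon S).map_injective (by rw [Functor.map_comp, hr, sqR.lift_fst])
      have hr₂ : r ≫ q = v ≫ y := (yon S).map_injective (by rw [Functor.map_comp, hr, sqR.lift_snd])
      let r' : T' ⟶ pullback n p := pullback.lift x r hr₁.symm
      refine ⟨T', v, (yon S).map (r' ≫ s), h₁, h₂, h₃, pullback.hom_ext ?_ ?_⟩
      · rw [Category.assoc, Category.assoc, pullback.lift_fst, ← hl, Functor.map_comp, Category.assoc,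
          ← sqπ.w, ← Functor.map_comp_assoc, pullback.lift_fst]
      · rw [Category.assoc, Category.assoc, pullback.lift_snd, ← Functor.map_comp, ← hy,
          ← Functor.map_comp, Category.assoc, hs₂, pullback.lift_snd_assoc, hr₂]
    have : Epi cc := Sheaf.epi_of_isLocallySurjective' _
    have : IsIso cc := isIso_of_mono_of_epi cc
    exact IsPullback.of_iso_pullback ⟨hν⟩ (asIso cc) (pullback.lift_fst _ _ _) (pullback.lift_snd _ _ _)
  have hνI : IsIntegralMor ν := isIntegralMor_of_etale_cover ν φ hφe hφs sqν hnI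
  -- the map from the source
  have := isLocallySurjective_of_etale (repWith_of_isPullback sqU.flip hφe)
    (repWith_of_isPullback sqU.flip hφs)
  have : Epi (pullback.fst f φ) := Sheaf.epi_of_isLocallySurjective' _
  have hreg : IsRegularEpi (pullback.fst f φ) := IsRegularEpiCategory.regularEpiOfEpi _
  let st := IsRegularEpi.getStruct (pullback.fst f φ)
  obtain ⟨f', hf'⟩ := st.desc' (gN ≫ π) (by
    let B := sqR.lift (st.left ≫ pullback.snd f φ) (st.right ≫ pullback.snd f φ) (by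
      rw [Category.assoc, Category.assoc, ← pullback.condition, reassoc_of% st.w])
    let gg := sqt'.lift (st.left ≫ gN) B (by rw [Category.assoc, hN.1, sqR.lift_fst])
    have e₁ : gg ≫ (yon S).map t = st.left ≫ gN := sqt'.lift_fst _ _ _
    have e₂ : gg ≫ (yon S).map s = st.right ≫ gN := key st.left st.right B gg st.w
      (sqR.lift_fst _ _ _).symm (sqR.lift_snd _ _ _).symm e₁ (sqt'.lift_snd _ _ _)
    exact ((Category.assoc _ _ π).symm.trans (congrArg (· ≫ π) e₁.symm)).trans
      (((Category.assoc _ _ π).trans ((congrArg (gg ≫ ·) sqπ.w).trans (Category.assoc _ _ π).symm)).trans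
        ((congrArg (· ≫ π) e₂).trans (Category.assoc _ _ π))))
  have hf'ν : f' ≫ ν = f := by
    rw [← cancel_epi (pullback.fst f φ), reassoc_of% hf', hν, ← Category.assoc, hN.1,
      ← pullback.condition]
  obtain ⟨-, -, κ', W', ψ, hW', hψe, hψs, hAt⟩ := hN
  refine ⟨_, ν, f', hF, hf'ν, hνI, κ', W', ψ ≫ φ, hW', repWith_comp hψe hφe, repWith_comp hψs hφs,
    fun k => ?_⟩
  obtain ⟨Nk, nk, z, P, A, B, gk, sq₁, sq₂, h₁, h₂, h₃⟩ := hAt k
  rw [← Category.assoc]
  exact ⟨Nk, nk, z ≫ π, P, A ≫ pullback.fst f φ, B, gk, sq₁.paste_horiz sqν, sq₂.paste_horiz sqU,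
    by rw [← Category.assoc, h₁, Category.assoc, Category.assoc, ← hf'], h₂, h₃⟩

/-- The relative normalization is locally normalised. -/
theorem isLocNorm_of_isRelNormalization (hV : IsAlgSpace V) (hG : IsAlgSpace G)
    (hqc : IsQuasiCompactMor f) (hqs : IsQuasiSeparatedMor f) {X' : Sp S} (hX' : IsAlgSpace X')
    {ν : X' ⟶ G} {f' : V ⟶ X'} (h : IsRelNormalization f ν f') : IsLocNorm f ν f' := by
  obtain ⟨F, ν₀, f₀, hF, h₀⟩ := exists_isLocNorm f hV hG hqc hqs
  have h₀' := isRelNormalization_of_isLocNorm hV hG hqc hqs h₀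
  obtain ⟨i, ⟨hi₁, hi₂⟩, -⟩ := h₀'.2.2 hX' ν f' h.2.1 h.1
  obtain ⟨j, ⟨hj₁, hj₂⟩, -⟩ := h.2.2 hF ν₀ f₀ h₀'.2.1 h₀'.1
  have hji : j ≫ i = 𝟙 X' := (h.2.2 hX' ν f' h.2.1 h.1).unique
    ⟨by rw [← Category.assoc, hj₁, hi₁], by rw [Category.assoc, hi₂, hj₂]⟩
    ⟨Category.comp_id _, Category.id_comp _⟩
  have hij : i ≫ j = 𝟙 F := (h₀'.2.2 hF ν₀ f₀ h₀'.2.1 h₀'.1).unique
    ⟨by rw [← Category.assoc, hi₁, hj₁], by rw [Category.assoc, hj₂, hi₂]⟩
    ⟨Category.comp_id _, Category.id_comp _⟩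
  obtain ⟨-, -, κ, W, φ, hW, hφe, hφs, hAt⟩ := h₀
  refine ⟨h.1, h.2.1, κ, W, φ, hW, hφe, hφs, fun k => ?_⟩
  obtain ⟨N, n, z, P, A, B, g, sq₁, sq₂, h₁, h₂, h₃⟩ := hAt k
  refine ⟨N, n, z ≫ i, P, A, B, g, ?_, sq₂, ?_, h₂, h₃⟩
  · exact IsPullback.of_iso sq₁ (Iso.refl _) ⟨i, j, hij, hji⟩ (Iso.refl _) (Iso.refl _) (by simp)
      (by simp) (by simp [hi₂]) (by simp)
  · rw [← Category.assoc, h₁, Category.assoc, hi₁]

end Groth.Agent.NormEt14
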