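import Groth.Agent.Lib.NormEt14.BaseChange
import Groth.Agent.Lib.AlgSpDescent.AffineCrit

/-!
# Locally normalised factorisations are relative normalizations
-/

universe u

set_option backward.isDefEq.respectTransparency.types false
set_option linter.unusedVariables false

open CategoryTheory CategoryTheory.Limits AlgebraicGeometry AlgSp Opposite
open Groth.Agent.AlgSpace Groth.Agent.AlgSpDescent

namespace Groth.Agent.NormEt14

variable {S : Scheme.{u}} {V G X' : Sp S}

/-- The factorisation is the normalization over the affine chart `w`. -/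
def NormAt (f : V ⟶ G) (ν : X' ⟶ G) (f' : V ⟶ X') {W : Over S} (w : (yon S).obj W ⟶ G) : Prop :=
  ∃ (N : Over S) (n : N ⟶ W) (z : (yon S).obj N ⟶ X') (P : Sp S) (a : P ⟶ V)
    (b : P ⟶ (yon S).obj W) (g : P ⟶ (yon S).obj N),
    IsPullback z ((yon S).map n) ν w ∧ IsPullback a b f w ∧ g ≫ z = a ≫ f' ∧
      g ≫ (yon S).map n = b ∧ IsNormAff b n g

variable {f : V ⟶ G} {ν : X' ⟶ G} {f' : V ⟶ X'}

theorem NormAt.restrict {W W' : Over S} {w : (yon S).obj W ⟶ G} (h : NormAt f ν f' w)
    (hV : IsAlgSpace V) (hG : IsAlgSpace G) (hqc : IsQuasiCompactMor f) (hqs : IsQuasiSeparatedMor f)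
    [IsAffine W.left] [IsAffine W'.left] (u : W' ⟶ W) [Smooth u.left] {w' : (yon S).obj W' ⟶ G}
    (hw' : (yon S).map u ≫ w = w') {N' : Over S} {n' : N' ⟶ W'} {z' : (yon S).obj N' ⟶ X'}
    (sqN' : IsPullback z' ((yon S).map n') ν w') {P' : Sp S} {a' : P' ⟶ V}
    {b' : P' ⟶ (yon S).obj W'} (sqb' : IsPullback a' b' f w') {g' : P' ⟶ (yon S).obj N'}
    (hg₁ : g' ≫ z' = a' ≫ f') (hg₂ : g' ≫ (yon S).map n' = b') : IsNormAff b' n' g' := by
  obtain ⟨N, n, z, P, a, b, g, sqN, sqb, h₁, h₂, hn⟩ := h
  let q : P' ⟶ P := sqb.lift a' (b' ≫ (yon S).map u) (by rw [Category.assoc, hw', sqb'.w])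
  have hq₁ : q ≫ a = a' := sqb.lift_fst _ _ _
  have hq₂ : q ≫ b = b' ≫ (yon S).map u := sqb.lift_snd _ _ _
  have sqV : IsPullback q b' b ((yon S).map u) :=
    IsPullback.of_right (by rw [hq₁, hw']; exact sqb') hq₂ sqb
  obtain ⟨l, hl⟩ := (yon S).map_surjective (sqN.lift z' ((yon S).map n' ≫ (yon S).map u)
    (by rw [Category.assoc, hw', sqN'.w]))
  have hl₁ : (yon S).map l ≫ z = z' := by rw [hl]; exact sqN.lift_fst _ _ _
  have hl₂ : (yon S).map l ≫ (yon S).map n = (yon S).map n' ≫ (yon S).map u := by
    rw [hl]; exact sqN.lift_snd _ _ _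
  have sqn : IsPullback ((yon S).map l) ((yon S).map n') ((yon S).map n) ((yon S).map u) :=
    IsPullback.of_right (by rw [hl₁, hw']; exact sqN') hl₂ sqN
  have sqn' : IsPullback l n' n u := IsPullback.of_map (yon S)
    ((yon S).map_injective (by rw [Functor.map_comp, Functor.map_comp, hl₂])) sqn
  have hP : IsAlgSpace P := isAlgSpace_pullback hG hV (IsAlgSpace.yon_obj W) sqb
  refine isNormAff_baseChange hP (isQuasiCompactMor_of_isPullback sqb hqc)
    (isQuasiSeparatedMor_of_isPullback sqb hqs) hn u sqV sqn' ?_ hg₂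
  refine sqN.hom_ext ?_ ?_
  · rw [Category.assoc, hl₁, hg₁, Category.assoc, h₁, ← Category.assoc, hq₁]
  · rw [Category.assoc, hl₂, ← Category.assoc, hg₂, Category.assoc, h₂, hq₂]

/-- An integral factorisation which is the normalization over the charts of an affine étale atlas. -/
def IsLocNorm (f : V ⟶ G) (ν : X' ⟶ G) (f' : V ⟶ X') : Prop :=
  f' ≫ ν = f ∧ IsIntegralMor ν ∧ ∃ (κ : Type u) (W : κ → Over S)
    (φ : (yon S).obj (coprodOver W) ⟶ G), (∀ k, IsAffine (W k).left) ∧ RepWith @Etale φ ∧
      RepWith @Surjective φ ∧ ∀ k, NormAt f ν f' ((yon S).map (coprodOverι W k) ≫ φ)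

theorem isOpenImmersion_coprodOverι {κ : Type u} (W : κ → Over S) (k : κ) :
    IsOpenImmersion (coprodOverι W k).left :=
  inferInstanceAs (IsOpenImmersion (Sigma.ι (fun j => (W j).left) k))

theorem coprodOver_pieces {κ : Type u} (W : κ → Over S) {T : Over S} (x : T ⟶ coprodOver W) :
    (∀ k, IsOpenImmersion (pullback.fst x (coprodOverι W k)).left) ∧
      ∀ t : ↥T.left, ∃ k v, (pullback.fst x (coprodOverι W k)).left v = t := by
  refine ⟨fun k => MorphismProperty.of_isPullback (P := @IsOpenImmersion)
    ((IsPullback.of_hasPullback x (coprodOverι W k)).map (Over.forget S)).flip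
    (isOpenImmersion_coprodOverι W k), fun t => ?_⟩
  obtain ⟨k, v, hv⟩ := (sigmaOpenCover (fun j => (W j).left)).exists_eq (x.left t)
  have sq := (IsPullback.of_hasPullback x (coprodOverι W k)).map (Over.forget S)
  obtain ⟨p, hp, -⟩ := Scheme.Pullback.exists_preimage_pullback (f := x.left)
    (g := (coprodOverι W k).left) t v hv.symm
  refine ⟨k, sq.isoPullback.inv p, ?_⟩
  have e := congrArg (fun r => r p) sq.isoPullback_inv_fst
  exact e.trans hp

theorem coprodOverι_disjoint {κ : Type u} {W : κ → Over S} {i j : κ} {T : Over S} {a : T ⟶ W i}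
    {b : T ⟶ W j} (h : a ≫ coprodOverι W i = b ≫ coprodOverι W j) :
    (∃ e : i = j, a ≫ eqToHom (congrArg W e) = b) ∨ IsEmpty ↥T.left := by
  rcases eq_or_ne i j with rfl | hij
  · left
    have : Mono (coprodOverι W i).left := have := isOpenImmersion_coprodOverι W i; inferInstance
    have := (Over.forget S).mono_of_mono_map (f := coprodOverι W i) this
    exact ⟨rfl, by simpa using (cancel_mono _).1 h⟩
  · exact Or.inr (isEmpty_of_commSq_sigmaι_of_ne (g := fun j => (W j).left) (a := a.left) (b := b.left)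
      ⟨congrArg (fun k => k.left) h⟩ hij)

theorem hom_ext_of_isEmpty' {T : Over S} (h : IsEmpty ↥T.left) {F : Sp S}
    (g g' : (yon S).obj T ⟶ F) : g = g' :=
  hom_ext_glue (κ := PEmpty.{u + 1}) (T' := fun k => k.elim) (fun k => k.elim)
    (fun k => k.elim) (fun t => (h.false t).elim) fun k => k.elim

/-- A locally normalised factorisation is the relative normalization. -/
theorem isRelNormalization_of_isLocNorm (hV : IsAlgSpace V) (hG : IsAlgSpace G)
    (hqc : IsQuasiCompactMor f) (hqs : IsQuasiSeparatedMor f) (h : IsLocNorm f ν f') :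
    IsRelNormalization f ν f' := by
  obtain ⟨hfν, hν, κ, W, φ, hW, hφe, hφs, hAt⟩ := h
  refine ⟨hfν, hν, fun Z hZ π g hπ hg => ?_⟩
  have hνr := isIntegralMor_iff_repWith.1 hν
  have hπr := isIntegralMor_iff_repWith.1 hπ
  have sqN := hνr.1.isPullback φ
  let n := hνr.1.snd φ
  let zN : (yon S).obj (hνr.1.pullback φ) ⟶ X' := hνr.1.fst φ
  let e : ∀ k, pullback n (coprodOverι W k) ⟶ hνr.1.pullback φ := fun k => pullback.fst n (coprodOverι W k)
  let nk : ∀ k, pullback n (coprodOverι W k) ⟶ W k := fun k => pullback.snd n (coprodOverι W k)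
  let w : ∀ k, (yon S).obj (W k) ⟶ G := fun k => (yon S).map (coprodOverι W k) ≫ φ
  let zk : ∀ k, (yon S).obj (pullback n (coprodOverι W k)) ⟶ X' := fun k => (yon S).map (e k) ≫ zN
  have sqk : ∀ k, IsPullback (zk k) ((yon S).map (nk k)) ν (w k) := fun k =>
    ((IsPullback.of_hasPullback n (coprodOverι W k)).map (yon S)).paste_horiz sqN
  have sqM : ∀ k, IsPullback (hπr.1.fst (w k)) ((yon S).map (hπr.1.snd (w k))) π (w k) :=
    fun k => hπr.1.isPullback (w k)
  have hwe : ∀ k, RepWith @Etale (w k) := fun k =>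
    repWith_comp ((repWith_yon_map_iff _ _).2
      (have := isOpenImmersion_coprodOverι W k; inferInstance)) hφe
  -- normalization over each chart
  let gk : ∀ k, pullback f (w k) ⟶ (yon S).obj (pullback n (coprodOverι W k)) := fun k =>
    (sqk k).lift (pullback.fst f (w k) ≫ f') (pullback.snd f (w k))
      (by rw [Category.assoc, hfν, pullback.condition])
  have hgk₁ : ∀ k, gk k ≫ zk k = pullback.fst f (w k) ≫ f' := fun k => (sqk k).lift_fst _ _ _
  have hgk₂ : ∀ k, gk k ≫ (yon S).map (nk k) = pullback.snd f (w k) := fun k => (sqk k).lift_snd _ _ _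
  have hnorm : ∀ k, IsNormAff (pullback.snd f (w k)) (nk k) (gk k) := fun k => by
    have := hW k
    exact (hAt k).restrict hV hG hqc hqs (𝟙 (W k)) (by rw [(yon S).map_id]; exact Category.id_comp _)
      (sqk k) (IsPullback.of_hasPullback f (w k)) (hgk₁ k) (hgk₂ k)
  have hM : ∀ k, IsIntegralHom (hπr.1.snd (w k)).left := fun k => hπr.2 _ _ _ (sqM k)
  let kk : ∀ k, pullback f (w k) ⟶ (yon S).obj (hπr.1.pullback (w k)) := fun k =>
    (sqM k).lift (pullback.fst f (w k) ≫ g) (pullback.snd f (w k))
      (by rw [Category.assoc, hg, pullback.condition])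
  have hkk : ∀ k, kk k ≫ (yon S).map (hπr.1.snd (w k)) = pullback.snd f (w k) := fun k =>
    (sqM k).lift_snd _ _ _
  have hex := fun k => (hnorm k).2.2.2 (hπr.1.snd (w k)) (hM k) (kk k) (hkk k)
  choose hk hk' hkuniq using fun k => (hex k).exists.elim fun x hx =>
    (⟨x, hx, fun y hy => (hex k).unique hy hx⟩ : ∃ x, (gk k ≫ (yon S).map x = kk k ∧ x ≫ hπr.1.snd (w k) = nk k) ∧
      ∀ y, (gk k ≫ (yon S).map y = kk k ∧ y ≫ hπr.1.snd (w k) = nk k) → y = x)
  let H : ∀ k, (yon S).obj (pullback n (coprodOverι W k)) ⟶ Z := fun k =>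
    (yon S).map (hk k) ≫ hπr.1.fst (w k)
  have hHπ : ∀ k, H k ≫ π = (yon S).map (nk k) ≫ w k := fun k => by
    simp only [H, Category.assoc, (sqM k).w, ← Functor.map_comp_assoc, (hk' k).2]
  have hgH : ∀ k, gk k ≫ H k = pullback.fst f (w k) ≫ g := fun k => by
    simp only [H, ← Category.assoc, (hk' k).1, kk]
    exact (sqM k).lift_fst _ _ _
  -- overlaps
  have key : ∀ (i j : κ) {T : Over S} (a : T ⟶ pullback n (coprodOverι W i))
      (b : T ⟶ pullback n (coprodOverι W j)), (yon S).map a ≫ zk i = (yon S).map b ≫ zk j →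
      (yon S).map a ≫ H i = (yon S).map b ≫ H j := by
    intro i j T a b hab
    have sqR := (hwe i).1.isPullback (w j)
    obtain ⟨p, hp⟩ := (yon S).map_surjective ((hwe i).1.fst (w j))
    let q := (hwe i).1.snd (w j)
    have sqR' : IsPullback ((yon S).map p) ((yon S).map q) (w i) (w j) := hp ▸ sqR
    have hpe : Etale p.left :=
      (repWith_yon_map_iff _ _).1 (repWith_of_isPullback sqR'.flip (hwe j))
    have hqe : Etale q.left := (hwe i).2 _ _ _ sqR'
    obtain ⟨r, hr⟩ := (yon S).map_surjective (sqR'.lift ((yon S).map (a ≫ nk i)) ((yon S).map (b ≫ nk j)) (by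
      rw [Functor.map_comp, Functor.map_comp, Category.assoc, Category.assoc, ← (sqk i).w,
        ← (sqk j).w, ← Category.assoc, hab, Category.assoc]))
    have hr₁ : r ≫ p = a ≫ nk i := (yon S).map_injective (by
      rw [Functor.map_comp, hr]; exact sqR'.lift_fst _ _ _)
    have hr₂ : r ≫ q = b ≫ nk j := (yon S).map_injective (by
      rw [Functor.map_comp, hr]; exact sqR'.lift_snd _ _ _)
    let R := (hwe i).1.pullback (w j)
    let Oo : R.left.affineOpens → Over S := fun O => Over.mk (O.1.ι ≫ R.hom)
    let io : ∀ O, Oo O ⟶ R := fun O => Over.homMk O.1.ι rfl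
    refine hom_ext_glue (κ := R.left.affineOpens) (fun O => pullback.fst r (io O))
      (fun O => MorphismProperty.of_isPullback (P := @IsOpenImmersion)
        ((IsPullback.of_hasPullback r (io O)).map (Over.forget S)).flip
        (inferInstanceAs (IsOpenImmersion O.1.ι))) (fun t => ?_) fun O => ?_
    · obtain ⟨U, hU, ht, -⟩ :=
        exists_isAffineOpen_mem_and_subset (X := R.left) (x := r.left t) (U := ⊤) trivial
      have sq := (IsPullback.of_hasPullback r (io ⟨U, hU⟩)).map (Over.forget S)
      obtain ⟨x, hx, -⟩ := Scheme.Pullback.exists_preimage_pullback (f := r.left) (g := U.ι) t ⟨r.left t, ht⟩ rfl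
      exact ⟨⟨U, hU⟩, sq.isoPullback.inv x, (congrArg (fun s => s x) sq.isoPullback_inv_fst).trans hx⟩
    have := hW i
    have := hW j
    have hO : IsAffine (Oo O).left := O.2
    let oi := io O ≫ p
    let oj := io O ≫ q
    have : Etale (io O).left := inferInstanceAs (Etale O.1.ι)
    have : Smooth oi.left := by
      have : Etale oi.left := inferInstanceAs (Etale ((io O).left ≫ p.left))
      infer_instance
    have : Smooth oj.left := by
      have : Etale oj.left := inferInstanceAs (Etale ((io O).left ≫ q.left))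
      infer_instance
    let wO := (yon S).map oi ≫ w i
    have hwj : (yon S).map oj ≫ w j = wO := by
      simp only [wO, oi, oj, Functor.map_comp, Category.assoc, sqR'.w]
    have sqO := hνr.1.isPullback wO
    let nO := hνr.1.snd wO
    obtain ⟨li, hli⟩ := (yon S).map_surjective ((sqk i).lift (hνr.1.fst wO) ((yon S).map (nO ≫ oi))
      (by rw [Functor.map_comp, Category.assoc]; exact sqO.w))
    obtain ⟨lj, hlj⟩ := (yon S).map_surjective ((sqk j).lift (hνr.1.fst wO) ((yon S).map (nO ≫ oj))
      (by rw [Functor.map_comp, Category.assoc, hwj]; exact sqO.w))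
    have hli₁ : (yon S).map li ≫ zk i = hνr.1.fst wO := by rw [hli]; exact (sqk i).lift_fst _ _ _
    have hlj₁ : (yon S).map lj ≫ zk j = hνr.1.fst wO := by rw [hlj]; exact (sqk j).lift_fst _ _ _
    have hli₂ : li ≫ nk i = nO ≫ oi := (yon S).map_injective (by
      rw [Functor.map_comp, hli]; exact (sqk i).lift_snd _ _ _)
    have hlj₂ : lj ≫ nk j = nO ≫ oj := (yon S).map_injective (by
      rw [Functor.map_comp, hlj]; exact (sqk j).lift_snd _ _ _)
    obtain ⟨t, ht⟩ := (yon S).map_surjective (sqO.lift
      ((yon S).map (pullback.fst r (io O) ≫ a) ≫ zk i) ((yon S).map (pullback.snd r (io O))) (by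
        rw [Category.assoc, (sqk i).w]
        simp only [wO, oi, ← Functor.map_comp_assoc, Category.assoc, ← hr₁, pullback.condition_assoc]))
    have ht₁ : (yon S).map t ≫ hνr.1.fst wO = (yon S).map (pullback.fst r (io O) ≫ a) ≫ zk i := by
      rw [ht]; exact sqO.lift_fst _ _ _
    have ht₂ : t ≫ nO = pullback.snd r (io O) := (yon S).map_injective (by
      rw [Functor.map_comp, ht]; exact sqO.lift_snd _ _ _)
    have hta : t ≫ li = pullback.fst r (io O) ≫ a := (yon S).map_injective ((sqk i).hom_ext
      (by rw [Functor.map_comp, Category.assoc, hli₁, ht₁]) (by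
        rw [← Functor.map_comp, ← Functor.map_comp]
        refine congrArg _ ?_
        rw [Category.assoc, hli₂, reassoc_of% ht₂, Category.assoc, ← hr₁]
        simp only [oi]
        rw [← Category.assoc, ← pullback.condition, Category.assoc]))
    have htb : t ≫ lj = pullback.fst r (io O) ≫ b := (yon S).map_injective ((sqk j).hom_ext
      (by rw [Functor.map_comp, Category.assoc, hlj₁, ht₁, Functor.map_comp, Functor.map_comp,
        Category.assoc, hab, Category.assoc]) (by
        rw [← Functor.map_comp, ← Functor.map_comp]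
        refine congrArg _ ?_
        rw [Category.assoc, hlj₂, reassoc_of% ht₂, Category.assoc, ← hr₂]
        simp only [oj]
        rw [← Category.assoc, ← pullback.condition, Category.assoc]))
    suffices hl : (yon S).map li ≫ H i = (yon S).map lj ≫ H j by
      have e₁ : (yon S).map (pullback.fst r (io O)) ≫ (yon S).map a = (yon S).map t ≫ (yon S).map li := by
        rw [← Functor.map_comp, ← Functor.map_comp, hta]
      have e₂ : (yon S).map (pullback.fst r (io O)) ≫ (yon S).map b = (yon S).map t ≫ (yon S).map lj := by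
        rw [← Functor.map_comp, ← Functor.map_comp, htb]
      exact ((Category.assoc _ _ _).symm.trans ((congrArg (· ≫ H i) e₁).trans (Category.assoc _ _ _))).trans
        ((congrArg ((yon S).map t ≫ ·) hl).trans
          ((Category.assoc _ _ _).symm.trans ((congrArg (· ≫ H j) e₂.symm).trans (Category.assoc _ _ _))))
    have sqP := IsPullback.of_hasPullback f wO
    let gO : pullback f wO ⟶ (yon S).obj (hνr.1.pullback wO) :=
      sqO.lift (pullback.fst f wO ≫ f') (pullback.snd f wO)
        (by rw [Category.assoc, hfν, pullback.condition])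
    have hn := (hAt i).restrict hV hG hqc hqs oi rfl sqO sqP (sqO.lift_fst _ _ _) (sqO.lift_snd _ _ _)
      (g' := gO)
    have sqMO := hπr.1.isPullback wO
    have hMO : IsIntegralHom (hπr.1.snd wO).left := hπr.2 _ _ _ sqMO
    obtain ⟨xi, hxi⟩ := (yon S).map_surjective (sqMO.lift ((yon S).map li ≫ H i) ((yon S).map nO) (by
      rw [Category.assoc, hHπ, ← Functor.map_comp_assoc, hli₂, Functor.map_comp_assoc]))
    obtain ⟨xj, hxj⟩ := (yon S).map_surjective (sqMO.lift ((yon S).map lj ≫ H j) ((yon S).map nO) (by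
      rw [Category.assoc, hHπ, ← Functor.map_comp_assoc, hlj₂, Functor.map_comp_assoc, hwj]))
    let kO : pullback f wO ⟶ (yon S).obj (hπr.1.pullback wO) :=
      sqMO.lift (pullback.fst f wO ≫ g) (pullback.snd f wO)
        (by rw [Category.assoc, hg, pullback.condition])
    have hgi : gO ≫ (yon S).map li = pullback.lift (pullback.fst f wO) (pullback.snd f wO ≫ (yon S).map oi)
        (by rw [Category.assoc]; exact pullback.condition) ≫ gk i := by
      refine (sqk i).hom_ext ?_ ?_
      · rw [Category.assoc, Category.assoc, hli₁, hgk₁, pullback.lift_fst_assoc]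
        exact sqO.lift_fst _ _ _
      · rw [Category.assoc, Category.assoc, hgk₂, pullback.lift_snd, ← (yon S).map_comp li, hli₂,
          (yon S).map_comp nO, ← Category.assoc]
        exact congrArg (· ≫ _) (sqO.lift_snd _ _ _)
    have hgj : gO ≫ (yon S).map lj = pullback.lift (pullback.fst f wO) (pullback.snd f wO ≫ (yon S).map oj)
        (by rw [Category.assoc, hwj]; exact pullback.condition) ≫ gk j := by
      refine (sqk j).hom_ext ?_ ?_
      · rw [Category.assoc, Category.assoc, hlj₁, hgk₁, pullback.lift_fst_assoc]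
        exact sqO.lift_fst _ _ _
      · rw [Category.assoc, Category.assoc, hgk₂, pullback.lift_snd, ← (yon S).map_comp lj, hlj₂,
          (yon S).map_comp nO, ← Category.assoc]
        exact congrArg (· ≫ _) (sqO.lift_snd _ _ _)
    have hxi' : gO ≫ (yon S).map xi = kO ∧ xi ≫ hπr.1.snd wO = nO := by
      refine ⟨sqMO.hom_ext ?_ ?_, (yon S).map_injective (by rw [Functor.map_comp, hxi]; exact sqMO.lift_snd _ _ _)⟩
      · rw [hxi, Category.assoc, sqMO.lift_fst, sqMO.lift_fst, ← Category.assoc, hgi, Category.assoc,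
          hgH, pullback.lift_fst_assoc]
      · rw [hxi, Category.assoc, sqMO.lift_snd, sqMO.lift_snd]
        exact sqO.lift_snd _ _ _
    have hxj' : gO ≫ (yon S).map xj = kO ∧ xj ≫ hπr.1.snd wO = nO := by
      refine ⟨sqMO.hom_ext ?_ ?_, (yon S).map_injective (by rw [Functor.map_comp, hxj]; exact sqMO.lift_snd _ _ _)⟩
      · rw [hxj, Category.assoc, sqMO.lift_fst, sqMO.lift_fst, ← Category.assoc, hgj, Category.assoc,
          hgH, pullback.lift_fst_assoc]
      · rw [hxj, Category.assoc, sqMO.lift_snd, sqMO.lift_snd]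
        exact sqO.lift_snd _ _ _
    have e := (hn.2.2.2 (hπr.1.snd wO) hMO kO (sqMO.lift_snd _ _ _)).unique hxi' hxj'
    have e' := congrArg (fun x => (yon S).map x ≫ hπr.1.fst wO) e
    simp only [hxi, hxj, sqMO.lift_fst] at e'
    exact e'
  -- glue on the cover
  obtain ⟨hopen, hsur⟩ := coprodOver_pieces W n
  obtain ⟨HN, hHN, -⟩ := existsUnique_glue e hopen hsur H fun i j T a b hab => key i j a b (by
    simp only [zk, ← Functor.map_comp_assoc, hab])
  have hzNe : RepWith @Etale zN := repWith_of_isPullback sqN.flip hφe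
  have hzNs : RepWith @Surjective zN := repWith_of_isPullback sqN.flip hφs
  have := isLocallySurjective_of_etale hzNe hzNs
  have hepi : Epi zN := Sheaf.epi_of_isLocallySurjective' _
  have hreg : IsRegularEpi zN := IsRegularEpiCategory.regularEpiOfEpi zN
  have hcomp : ∀ {T : Over S} (x y : T ⟶ hνr.1.pullback φ),
      (yon S).map x ≫ zN = (yon S).map y ≫ zN → (yon S).map x ≫ HN = (yon S).map y ≫ HN := by
    intro T x y hxy
    obtain ⟨hox, hsx⟩ := coprodOver_pieces W (x ≫ n)
    obtain hpy := fun i => coprodOver_pieces W (pullback.fst (x ≫ n) (coprodOverι W i) ≫ y ≫ n)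
    refine hom_ext_glue (fun i => pullback.fst (x ≫ n) (coprodOverι W i)) hox hsx fun i => ?_
    refine hom_ext_glue (fun j => pullback.fst (pullback.fst (x ≫ n) (coprodOverι W i) ≫ y ≫ n)
      (coprodOverι W j)) (hpy i).1 (hpy i).2 fun j => ?_
    let x' := pullback.fst (x ≫ n) (coprodOverι W i)
    let y' := pullback.fst (x' ≫ y ≫ n) (coprodOverι W j)
    let ai : pullback (x' ≫ y ≫ n) (coprodOverι W j) ⟶ pullback n (coprodOverι W i) :=
      pullback.lift (y' ≫ x' ≫ x) (y' ≫ pullback.snd _ _) (by
        simp only [Category.assoc, x', pullback.condition])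
    let bj : pullback (x' ≫ y ≫ n) (coprodOverι W j) ⟶ pullback n (coprodOverι W j) :=
      pullback.lift (y' ≫ x' ≫ y) (pullback.snd _ _) (by
        simp only [Category.assoc, y', pullback.condition])
    have ha : ai ≫ e i = y' ≫ x' ≫ x := pullback.lift_fst _ _ _
    have hb : bj ≫ e j = y' ≫ x' ≫ y := pullback.lift_fst _ _ _
    have := key i j ai bj (by
      simp only [zk, ← Functor.map_comp_assoc, ha, hb]
      simp only [Functor.map_comp, Category.assoc, hxy])
    rw [← hHN i, ← hHN j, ← Functor.map_comp_assoc, ← Functor.map_comp_assoc, ha, hb] at this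
    simpa only [Functor.map_comp, Category.assoc] using this
  let st := IsRegularEpi.getStruct zN
  obtain ⟨hmap, hh⟩ := st.desc' HN (hom_ext_yon fun T t => by
    obtain ⟨x, hx⟩ := (yon S).map_surjective (t ≫ st.left)
    obtain ⟨y, hy⟩ := (yon S).map_surjective (t ≫ st.right)
    rw [← Category.assoc, ← Category.assoc, ← hx, ← hy]
    refine hcomp x y ?_
    rw [hx, hy, Category.assoc, Category.assoc, st.w])
  have hzh : ∀ k, zk k ≫ hmap = H k := fun k => by simp only [zk, Category.assoc, hh, hHN k]
  refine ⟨hmap, ⟨?_, ?_⟩, ?_⟩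
  · -- compatibility with `f'` is checked on the charts of `V`
    have hcov : ∀ {T : Over S} (t : (yon S).obj T ⟶ V), t ≫ f' ≫ hmap = t ≫ g := by
      intro T t
      have sqT := hφe.1.isPullback (t ≫ f)
      obtain ⟨x, hx⟩ := (yon S).map_surjective (hφe.1.fst (t ≫ f))
      let v := hφe.1.snd (t ≫ f)
      have hve : Etale v.left := hφe.2 _ _ _ sqT
      have hvs : Surjective v.left := hφs.2 _ _ _ sqT
      have := isLocallySurjective_of_etale (a := (yon S).map v) ((repWith_yon_map_iff _ _).2 hve)
        ((repWith_yon_map_iff _ _).2 hvs)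
      have : Epi ((yon S).map v) := Sheaf.epi_of_isLocallySurjective' _
      rw [← cancel_epi ((yon S).map v)]
      obtain ⟨ho, hs⟩ := coprodOver_pieces W x
      refine hom_ext_glue (fun i => pullback.fst x (coprodOverι W i)) ho hs fun i => ?_
      let l : (yon S).obj (pullback x (coprodOverι W i)) ⟶ pullback f (w i) :=
        pullback.lift ((yon S).map (pullback.fst x (coprodOverι W i)) ≫ (yon S).map v ≫ t)
          ((yon S).map (pullback.snd x (coprodOverι W i))) (by
            simp only [w, ← Functor.map_comp_assoc, ← pullback.condition]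
            simp only [Functor.map_comp, Category.assoc, hx, sqT.w]
            rfl)
      have e₁ : l ≫ pullback.fst f (w i) = (yon S).map (pullback.fst x (coprodOverι W i)) ≫ (yon S).map v ≫ t :=
        pullback.lift_fst _ _ _
      simp only [← Category.assoc] at e₁ ⊢
      rw [← e₁]
      simp only [Category.assoc]
      rw [← hgH i, ← hzh i, ← Category.assoc (pullback.fst f (w i)), ← hgk₁ i]
      simp only [Category.assoc]
    exact hom_ext_yon fun T t => hcov t
  · rw [← cancel_epi zN, sqN.w, ← Category.assoc, hh]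
    refine hom_ext_glue e hopen hsur fun k => ?_
    rw [← Category.assoc, hHN k, hHπ k]
    simp only [w, ← Functor.map_comp_assoc, e, nk, ← pullback.condition]
    rfl
  · rintro h' ⟨h₁, h₂⟩
    rw [← cancel_epi zN, hh]
    refine hom_ext_glue e hopen hsur fun k => ?_
    rw [hHN k]
    obtain ⟨x, hx⟩ := (yon S).map_surjective ((sqM k).lift (zk k ≫ h') ((yon S).map (nk k))
      (by rw [Category.assoc, h₂, (sqk k).w]))
    have := hkuniq k x ⟨(sqM k).hom_ext (by
        rw [hx, Category.assoc, IsPullback.lift_fst, IsPullback.lift_fst, ← Category.assoc, hgk₁,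
          Category.assoc, h₁])
      (by rw [hx, Category.assoc, IsPullback.lift_snd, hgk₂, hkk]),
      (yon S).map_injective (by rw [Functor.map_comp, hx]; exact (sqM k).lift_snd _ _ _)⟩
    simp only [H, ← this, hx, IsPullback.lift_fst, zk, Category.assoc]

end Groth.Agent.NormEt14
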