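import Groth.Agent.Lib.AlgSpDecent.FiniteGeneric
import Groth.Agent.Lib.AlgSpDecent.HasAtChart
import Groth.Agent.Lib.AlgSpDescent.RedNoeth

/-!
# Locally finitely many irreducible components
-/

universe u

set_option backward.isDefEq.respectTransparency.types false
set_option linter.unusedVariables false

open CategoryTheory CategoryTheory.Limits AlgebraicGeometry AlgSp Opposite Topology
open Groth.Agent.AlgSpace Groth.Agent.AlgSpDecent Groth.Agent.AlgSpDescent

namespace Groth.Agent.NormEt14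

/-- Finitely many minimal points give finitely many components. -/
theorem finite_components_of_finite_isMin {X : Scheme.{u}}
    (h : {x : X | ∀ y : X, y ⤳ x → y = x}.Finite) : (irreducibleComponents X).Finite := by
  refine (h.image fun x => closure ({x} : Set X)).subset fun C hC => ?_
  obtain ⟨x, hx⟩ := QuasiSober.sober hC.1 (isClosed_of_mem_irreducibleComponents C hC)
  refine ⟨x, fun y hy => ?_, hx.def⟩
  obtain ⟨D, hD, hyD⟩ :=
    exists_mem_irreducibleComponents_subset_of_isIrreducible _ (isIrreducible_singleton (x := y)).closure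
  have hxy : closure ({x} : Set X) ⊆ closure {y} := specializes_iff_closure_subset.1 hy
  have hCD : C ⊆ D := hx.def.ge.trans (hxy.trans hyD)
  have hyC : y ∈ C := hC.2 hD.1 hCD (hyD (subset_closure rfl))
  exact (hy.antisymm (hx.specializes hyC)).eq

/-- Every quasi-compact open has finitely many irreducible components. -/
abbrev LocFin (U : Scheme.{u}) : Prop :=
  ∀ W : U.Opens, IsCompact (W : Set ↥U) → (irreducibleComponents ↥W).Finite

/-- Minimal points of a quasi-compact open. -/
theorem isMin_open_iff {U : Scheme.{u}} (W : U.Opens) (x : W) :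
    (∀ y : W, y ⤳ x → y = x) ↔ ∀ y : U, y ⤳ x.1 → y = x.1 :=
  ⟨fun h y hy => congrArg Subtype.val
      (h ⟨y, hy.mem_open W.2 x.2⟩ ((subtype_specializes_iff _ _).2 hy)),
    fun h y hy => Subtype.ext (h y.1 ((subtype_specializes_iff _ _).1 hy))⟩

theorem locFin_iff {U : Scheme.{u}} :
    LocFin U ↔ ∀ W : U.Opens, IsCompact (W : Set ↥U) → {x : U | x ∈ W ∧ ∀ y, y ⤳ x → y = x}.Finite := by
  refine ⟨fun h W hW => ?_, fun h W hW => ?_⟩
  · refine ((finite_setOf_isMin (X := W.toScheme) (h W hW)).image Subtype.val).subset fun x hx => ?_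
    exact ⟨⟨x, hx.1⟩, (isMin_open_iff W ⟨x, hx.1⟩).2 hx.2, rfl⟩
  · refine finite_components_of_finite_isMin (X := W.toScheme) ?_
    exact Set.Finite.of_finite_image ((h W hW).subset (by
      rintro _ ⟨x, hx, rfl⟩
      exact ⟨x.2, (isMin_open_iff W x).1 hx⟩)) Subtype.val_injective.injOn

theorem finite_isMin_fibre {X Y : Scheme.{u}} (f : X ⟶ Y) [LocallyOfFiniteType f] [QuasiCompact f]
    (y : Y) : {x : X | f x = y ∧ ∀ x', x' ⤳ x → x' = x}.Finite := by
  let F := f.fiber y
  have : LocallyOfFiniteType (f.fiberToSpecResidueField y) :=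
    MorphismProperty.pullback_snd (P := @LocallyOfFiniteType) f (Y.fromSpecResidueField y) inferInstance
  have : IsLocallyNoetherian F := LocallyOfFiniteType.isLocallyNoetherian (f.fiberToSpecResidueField y)
  have : QuasiCompact (f.fiberToSpecResidueField y) :=
    MorphismProperty.pullback_snd (P := @QuasiCompact) f (Y.fromSpecResidueField y) inferInstance
  have : CompactSpace F := QuasiCompact.compactSpace_of_compactSpace (f.fiberToSpecResidueField y)
  have : IsNoetherian F := {}
  refine ((finite_setOf_isMin (TopologicalSpace.NoetherianSpace.finite_irreducibleComponents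
    (α := F))).image (f.fiberι y)).subset fun x hx => ?_
  obtain ⟨z, rfl⟩ := (f.range_fiberι y).ge hx.1
  exact ⟨z, fun z' hz' => (f.fiberι y).isEmbedding.injective (hx.2 _ (hz'.map (f.fiberι y).continuous)), rfl⟩

/-- The condition ascends along flat maps locally of finite type. -/
theorem locFin_up {A B : Scheme.{u}} (f : A ⟶ B) [Flat f] [LocallyOfFiniteType f] (h : LocFin B) :
    LocFin A := by
  rw [locFin_iff] at h ⊢
  intro W hW
  have hloc : ∀ x ∈ W, ∃ O : A.Opens, x ∈ O ∧ {a : A | a ∈ O ∧ ∀ y, y ⤳ a → y = a}.Finite := fun x hx => by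
    obtain ⟨V, hV, hxV, -⟩ := exists_isAffineOpen_mem_and_subset (X := B) (x := f x) (U := ⊤) trivial
    obtain ⟨O, hO, hxO, hOV⟩ := exists_isAffineOpen_mem_and_subset (U := f ⁻¹ᵁ V) hxV
    refine ⟨O, hxO, ?_⟩
    have : IsAffine V.toScheme := hV
    have : IsAffine O.toScheme := hO
    let g : O.toScheme ⟶ V.toScheme := f.resLE V O hOV
    have : LocallyOfFiniteType (g ≫ V.ι) := by
      simp only [g, Scheme.Hom.resLE_comp_ι]; infer_instance
    have : LocallyOfFiniteType g := locallyOfFiniteType_of_comp g V.ι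
    have hg : ∀ a, (g a).1 = f a.1 := fun a => congrArg (fun k => k a) (Scheme.Hom.resLE_comp_ι f hOV)
    refine ((((h V hV.isCompact).preimage (Subtype.val_injective (p := (· ∈ V))).injOn).biUnion
      fun v _ => finite_isMin_fibre g v).image Subtype.val).subset fun a ha => ?_
    refine ⟨⟨a, ha.1⟩, Set.mem_iUnion₂.2 ⟨g ⟨a, ha.1⟩, ⟨(g ⟨a, ha.1⟩).2, fun b hb => ?_⟩, rfl,
      fun a' ha' => (isMin_open_iff O ⟨a, ha.1⟩).2 ha.2 a' ha'⟩, rfl⟩
    rw [hg] at hb ⊢
    obtain ⟨a', ha', rfl⟩ := Flat.generalizingMap f hb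
    rw [ha.2 a' ha']
  choose O hxO hO using hloc
  obtain ⟨s, hs⟩ := hW.elim_finite_subcover (fun x : W => (O x.1 x.2 : Set A)) (fun x => (O x.1 x.2).2)
    fun x hx => Set.mem_iUnion.2 ⟨⟨x, hx⟩, hxO x hx⟩
  refine (s.finite_toSet.biUnion fun x _ => hO x.1 x.2).subset fun a ha => ?_
  obtain ⟨x, hx, hax⟩ := Set.mem_iUnion₂.1 (hs ha.1)
  exact Set.mem_iUnion₂.2 ⟨x, hx, hax, ha.2⟩

/-- The condition descends along étale surjections. -/
theorem locFin_down {A B : Scheme.{u}} (f : A ⟶ B) [Etale f] (hf : Surjective f) (h : LocFin A) :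
    LocFin B := by
  rw [locFin_iff] at h ⊢
  intro W hW
  choose a ha using hf.surj
  choose O hO haO hOW using fun x : W => exists_isAffineOpen_mem_and_subset (X := A) (x := a x.1)
    (U := f ⁻¹ᵁ W) (show f (a x.1) ∈ W by rw [ha]; exact x.2)
  obtain ⟨s, hs⟩ := hW.elim_finite_subcover (fun x : W => f '' (O x : Set A))
    (fun x => f.isOpenMap _ (O x).2) fun x hx => Set.mem_iUnion.2 ⟨⟨x, hx⟩, a x, haO ⟨x, hx⟩, ha x⟩
  refine ((s.finite_toSet.biUnion fun x _ => h (O x) (hO x).isCompact).image f).subset fun b hb => ?_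
  obtain ⟨x, hx, a', ha', rfl⟩ := Set.mem_iUnion₂.1 (hs hb.1)
  refine ⟨a', Set.mem_iUnion₂.2 ⟨x, hx, ha', fun a'' h'' => ?_⟩, rfl⟩
  refine eq_of_specializes_of_dim_zero ?_ h''
  rw [ringKrullDim_stalk_eq_coheight, coheight_eq_of_etale f a', ← ringKrullDim_stalk_eq_coheight]
  exact (dim_zero_iff_isMin _).2 hb.2

variable {S : Scheme.{u}} {F : Sp S}

theorem locFin_chart (h : EtaleLocally LocFin F) {U : Over S} {a : (yon S).obj U ⟶ F}
    (ha : RepWith @Etale a) : LocFin U.left :=
  prop_of_etale_chart (fun _ _ f _ h => locFin_up f h) (fun _ _ f _ hs h => locFin_down f hs h) h ha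

theorem locFin_space_iff (hF : IsAlgSpace F) :
    EtaleLocally LocFin F ↔ ∀ (U : Over S) (a : (yon S).obj U ⟶ F), RepWith @Etale a → LocFin U.left := by
  refine ⟨fun h U a ha => locFin_chart h ha, fun h => ?_⟩
  obtain ⟨U, a, hae, has⟩ := hF.atlas
  exact ⟨U, a, hae, has, h U a hae⟩

theorem finite_isMin_of_etale {Y : Sp S} {g : Y ⟶ F} (h : EtaleLocally LocFin F)
    (hg : IsEtaleMor g) (hc : IsQuasiCompactSp Y) :
    ∃ (A : Over S) (a : (yon S).obj A ⟶ Y), IsAffine A.left ∧ RepWith @Etale a ∧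
      RepWith @Surjective a ∧ (irreducibleComponents A.left).Finite := by
  obtain ⟨A, a, hA, hae, has⟩ := exists_affine_chart hc
  refine ⟨A, a, hA, hae, has, finite_components_of_finite_isMin ?_⟩
  exact ((locFin_iff.1 (locFin_chart h (hg a hae))) ⊤ isCompact_univ).subset fun x hx => ⟨trivial, hx⟩

end Groth.Agent.NormEt14
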