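import Groth.Agent.Lib.NormEt14.Chart
import Groth.Agent.Lib.AlgSpace.ImmDescent
import Groth.Agent.Lib.AlgSpace.LqfScheme
import Groth.Agent.Lib.AlgSpace.MorDiag
import Groth.Agent.Lib.AlgSpDecent.FiniteGeneric
import Mathlib.AlgebraicGeometry.ZariskisMainTheorem

/-!
# Finite clopen pieces split off from a normalization
-/

universe u

set_option backward.isDefEq.respectTransparency.types false
set_option linter.unusedVariables false

open CategoryTheory CategoryTheory.Limits AlgebraicGeometry AlgSp Opposite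
open Groth.Agent.AlgSpace Groth.Agent.AlgSpDescent Groth.Agent.AlgSpDecent Groth.Agent.EtSmLoc15

namespace Groth.Agent.NormEt14

variable {S : Scheme.{u}}

/-- A finite piece over an affine étale neighbourhood of a quasi-finite point. -/
theorem exists_finite_piece {A U : Over S} [IsAffine A.left] [IsAffine U.left] (h : A ⟶ U)
    [LocallyOfFiniteType h.left] (a₀ : ↥A.left) (hq : h.left.QuasiFiniteAt a₀) :
    ∃ (U₂ : Over S) (u : U₂ ⟶ U) (K : Over S) (kι : K ⟶ pullback h u) (k₀ : ↥K.left),
      IsAffine U₂.left ∧ Etale u.left ∧ IsOpenImmersion kι.left ∧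
      IsFinite (kι ≫ pullback.snd h u).left ∧ (kι ≫ pullback.fst h u).left k₀ = a₀ := by
  obtain ⟨U₁, g, hg, -, V₁, W₁, v, -, hfin, hv⟩ :=
    exists_etale_isCompl_of_quasiFiniteAt h.left rfl hq
  obtain ⟨O, hO, hvO, -⟩ := exists_isAffineOpen_mem_and_subset (X := U₁)
    (x := (pullback.snd h.left g) v.1) (U := ⊤) trivial
  let U₂ : Over S := Over.mk (O.ι ≫ g ≫ U.hom)
  let u : U₂ ⟶ U := Over.homMk (O.ι ≫ g) (Category.assoc _ _ _)
  have sqA : IsPullback (pullback.fst h u).left (pullback.snd h u).left h.left (O.ι ≫ g) :=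
    (IsPullback.of_hasPullback h u).map (Over.forget S)
  let m : (pullback h u).left ⟶ pullback h.left g :=
    pullback.lift (pullback.fst h u).left ((pullback.snd h u).left ≫ O.ι)
      (by rw [sqA.w, Category.assoc])
  have hm₁ : m ≫ pullback.fst h.left g = (pullback.fst h u).left := pullback.lift_fst _ _ _
  have hm₂ : m ≫ pullback.snd h.left g = (pullback.snd h u).left ≫ O.ι := pullback.lift_snd _ _ _
  have sqm : IsPullback m (pullback.snd h u).left (pullback.snd h.left g) O.ι :=
    IsPullback.of_right (by rw [hm₁]; exact sqA) hm₂ (IsPullback.of_hasPullback h.left g)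
  let K : Over S := Over.mk ((m ⁻¹ᵁ V₁).ι ≫ (pullback h u).hom)
  let kι : K ⟶ pullback h u := Over.homMk (m ⁻¹ᵁ V₁).ι rfl
  have hkfin : IsFinite (kι ≫ pullback.snd h u).left :=
    MorphismProperty.of_isPullback (P := @IsFinite)
      ((isPullback_morphismRestrict m V₁).paste_vert sqm) hfin
  obtain ⟨p, hp₁, -⟩ := Scheme.Pullback.exists_preimage_pullback (f := pullback.snd h.left g)
    (g := O.ι) v.1 ⟨_, hvO⟩ rfl
  have hpm : m (sqm.isoPullback.inv p) = v.1 :=
    (congrArg (fun k => k p) sqm.isoPullback_inv_fst).trans hp₁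
  refine ⟨U₂, u, K, kι, ⟨sqm.isoPullback.inv p, show m _ ∈ V₁ by rw [hpm]; exact v.2⟩, hO,
    inferInstanceAs (Etale (O.ι ≫ g)), inferInstanceAs (IsOpenImmersion (m ⁻¹ᵁ V₁).ι), hkfin, ?_⟩
  change (pullback.fst h u).left (sqm.isoPullback.inv p) = a₀
  rw [← hm₁, Scheme.Hom.comp_apply, hpm, hv]

section Piecewise

variable {V VI F : Sp S} {j : VI ⟶ V}

/-- Maps out of a space agreeing on a clopen piece and off it are equal. -/
theorem hom_ext_piecewise (hj : RepWith @IsOpenImmersion j)
    (hcl : IsClosed (Set.range (Points.map j))) {k k' : V ⟶ F} (h₁ : j ≫ k = j ≫ k')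
    (h₂ : ∀ ⦃T : Over S⦄ (t : (yon S).obj T ⟶ V),
      (∀ x, Points.ofPt t x ∉ Set.range (Points.map j)) → t ≫ k = t ≫ k') : k = k' := by
  refine hom_ext_yon fun T t => ?_
  let O : Bool → T.left.Opens := fun b => bif b then
    ⟨Points.ofPt t ⁻¹' Set.range (Points.map j),
      (isOpen_range_map_of_openImmersion hj).preimage (Points.continuous_ofPt t)⟩
    else ⟨(Points.ofPt t ⁻¹' Set.range (Points.map j))ᶜ,
      (hcl.preimage (Points.continuous_ofPt t)).isOpen_compl⟩
  refine hom_ext_glue (κ := ULift.{u} Bool) (T' := fun b => Over.mk ((O b.down).ι ≫ T.hom))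
    (fun b => Over.homMk (O b.down).ι rfl) (fun b => inferInstanceAs (IsOpenImmersion (O b.down).ι))
    (fun x => ?_) fun b => ?_
  · by_cases hx : Points.ofPt t x ∈ Set.range (Points.map j)
    · exact ⟨⟨true⟩, ⟨x, hx⟩, rfl⟩
    · exact ⟨⟨false⟩, ⟨x, hx⟩, rfl⟩
  obtain ⟨b⟩ := b
  rw [← Category.assoc, ← Category.assoc]
  cases b with
  | true =>
    obtain ⟨l, hl⟩ := exists_factor_of_range hj ((yon S).map
      (Over.homMk (O true).ι rfl : Over.mk ((O true).ι ≫ T.hom) ⟶ T) ≫ t) (by
        rintro _ ⟨x, rfl⟩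
        obtain ⟨x, rfl⟩ := (Points.schemeEquiv _).surjective x
        change Points.map _ (Points.ofScheme _ x) ∈ _
        rw [← Points.ofPt_eq_map_ofScheme, ofPt_map_comp]
        exact x.2)
    change ((yon S).map (Over.homMk (O true).ι rfl : Over.mk ((O true).ι ≫ T.hom) ⟶ T) ≫ t) ≫ k = _ ≫ k'
    rw [← hl, Category.assoc, h₁, Category.assoc]
  | false =>
    refine h₂ _ fun x hx => ?_
    rw [ofPt_map_comp] at hx
    exact x.2 hx

/-- A map defined separately on a clopen piece and off it. -/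
theorem exists_piecewise (hj : RepWith @IsOpenImmersion j)
    (hcl : IsClosed (Set.range (Points.map j))) (α : VI ⟶ F) (β : V ⟶ F) :
    ∃ k : V ⟶ F, j ≫ k = α ∧ ∀ ⦃T : Over S⦄ (t : (yon S).obj T ⟶ V),
      (∀ x, Points.ofPt t x ∉ Set.range (Points.map j)) → t ≫ k = t ≫ β := by
  have : Mono j := mono_of_repWith _ (repWith_mono (fun _ _ g (_ : IsOpenImmersion g) =>
    (inferInstance : Mono g)) hj)
  have hval : ∀ ⦃T : Over S⦄ (t : (yon S).obj T ⟶ V), ∃! l : (yon S).obj T ⟶ F,
      (∀ ⦃Q : Over S⦄ (a : Q ⟶ T) (q : (yon S).obj Q ⟶ VI),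
        q ≫ j = (yon S).map a ≫ t → (yon S).map a ≫ l = q ≫ α) ∧
      (∀ ⦃Q : Over S⦄ (a : Q ⟶ T), (∀ x, Points.ofPt ((yon S).map a ≫ t) x ∉ Set.range (Points.map j)) →
        (yon S).map a ≫ l = (yon S).map a ≫ t ≫ β) := by
    intro T t
    let O : Bool → T.left.Opens := fun b => bif b then
      ⟨Points.ofPt t ⁻¹' Set.range (Points.map j),
        (isOpen_range_map_of_openImmersion hj).preimage (Points.continuous_ofPt t)⟩
      else ⟨(Points.ofPt t ⁻¹' Set.range (Points.map j))ᶜ,
        (hcl.preimage (Points.continuous_ofPt t)).isOpen_compl⟩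
    let T' : ULift.{u} Bool → Over S := fun b => Over.mk ((O b.down).ι ≫ T.hom)
    let π : ∀ b, T' b ⟶ T := fun b => Over.homMk (O b.down).ι rfl
    have hπ : ∀ b, IsOpenImmersion (π b).left := fun b => inferInstanceAs (IsOpenImmersion (O b.down).ι)
    have hc : ∀ x : ↥T.left, ∃ b v, (π b).left v = x := fun x => by
      by_cases hx : Points.ofPt t x ∈ Set.range (Points.map j)
      · exact ⟨⟨true⟩, ⟨x, hx⟩, rfl⟩
      · exact ⟨⟨false⟩, ⟨x, hx⟩, rfl⟩
    obtain ⟨f₁, hf₁⟩ := exists_factor_of_range hj ((yon S).map (π ⟨true⟩) ≫ t) (by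
      rintro _ ⟨x, rfl⟩
      obtain ⟨x, rfl⟩ := (Points.schemeEquiv _).surjective x
      change Points.map _ (Points.ofScheme _ x) ∈ _
      rw [← Points.ofPt_eq_map_ofScheme, ofPt_map_comp]
      exact x.2)
    let l : ∀ b, (yon S).obj (T' b) ⟶ F := fun ⟨b⟩ => match b with
      | true => f₁ ≫ α
      | false => (yon S).map (π ⟨false⟩) ≫ t ≫ β
    have hmem : ∀ {Q : Over S} (a : Q ⟶ T) (q : (yon S).obj Q ⟶ VI), q ≫ j = (yon S).map a ≫ t →
        ∀ x : ↥Q.left, Points.ofPt t (a.left x) ∈ Set.range (Points.map j) := fun a q hq x => by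
      rw [← ofPt_map_comp, ← hq, ← Points.map_ofPt]
      exact ⟨_, rfl⟩
    obtain ⟨g, hg, hgu⟩ := existsUnique_glue π hπ hc l (by
      rintro ⟨_ | _⟩ ⟨_ | _⟩ Q a b hab
      · simp only [l, ← Category.assoc, ← Functor.map_comp, hab]
      · refine hom_ext_of_isEmpty' ⟨fun x => ?_⟩ _ _
        have e : ((a.left x).1 : ↥T.left) = (b.left x).1 := congrArg (fun k : Q ⟶ T => k.left x) hab
        exact (a.left x).2 (by have h2 := (b.left x).2; rw [← e] at h2; exact h2)
      · refine hom_ext_of_isEmpty' ⟨fun x => ?_⟩ _ _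
        have e : ((a.left x).1 : ↥T.left) = (b.left x).1 := congrArg (fun k : Q ⟶ T => k.left x) hab
        exact (b.left x).2 (by have h2 := (a.left x).2; rw [e] at h2; exact h2)
      · have e : (yon S).map a ≫ f₁ = (yon S).map b ≫ f₁ := by
          rw [← cancel_mono j, Category.assoc, Category.assoc, hf₁, ← Category.assoc, ← Category.assoc,
            ← Functor.map_comp, ← Functor.map_comp, hab]
        simp only [l, ← Category.assoc, e])
    refine ⟨g, ⟨fun Q a q hq => ?_, fun Q a hQ => ?_⟩, fun g' hg' => hgu g' fun ⟨b⟩ => ?_⟩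
    · let c : Q ⟶ T' ⟨true⟩ := Over.homMk (IsOpenImmersion.lift (O true).ι a.left (by
        rintro _ ⟨x, rfl⟩
        rw [(O true).range_ι]
        exact hmem a q hq x)) (by
          change IsOpenImmersion.lift _ _ _ ≫ (O true).ι ≫ T.hom = _
          rw [← Category.assoc, IsOpenImmersion.lift_fac, Over.w])
      have hc' : c ≫ π ⟨true⟩ = a := Over.OverMorphism.ext (IsOpenImmersion.lift_fac _ _ _)
      have hq' : q = (yon S).map c ≫ f₁ := by
        rw [← cancel_mono j, Category.assoc, hf₁, hq, ← Functor.map_comp_assoc, hc']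
      rw [← hc', Functor.map_comp, Category.assoc, hg, hq', Category.assoc]
    · let c : Q ⟶ T' ⟨false⟩ := Over.homMk (IsOpenImmersion.lift (O false).ι a.left (by
        rintro _ ⟨x, rfl⟩
        rw [(O false).range_ι]
        have := hQ x
        rw [ofPt_map_comp] at this
        exact this)) (by
          change IsOpenImmersion.lift _ _ _ ≫ (O false).ι ≫ T.hom = _
          rw [← Category.assoc, IsOpenImmersion.lift_fac, Over.w])
      have hc' : c ≫ π ⟨false⟩ = a := Over.OverMorphism.ext (IsOpenImmersion.lift_fac _ _ _)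
      rw [← hc', Functor.map_comp, Category.assoc, hg, Category.assoc]
    · cases b with
      | true => exact hg'.1 (π ⟨true⟩) f₁ hf₁
      | false =>
        refine hg'.2 (π ⟨false⟩) fun x hx => ?_
        rw [ofPt_map_comp] at hx
        exact x.2 hx
  choose val hval₁ hval₂ using hval
  obtain ⟨k, hk⟩ := exists_hom_of_family (F := V) val fun T T' a t => by
    refine (hval₂ ((yon S).map a ≫ t) _ ⟨fun Q b q hq => ?_, fun Q b hb => ?_⟩).symm
    · rw [← Functor.map_comp_assoc]
      exact (hval₁ t).1 (b ≫ a) q (by rw [hq, Functor.map_comp, Category.assoc])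
    · rw [← Functor.map_comp_assoc, (hval₁ t).2 (b ≫ a) (fun x => by
        rw [Functor.map_comp, Category.assoc]; exact hb x)]
      simp only [Functor.map_comp, Category.assoc]
  refine ⟨k, hom_ext_yon fun T t => ?_, fun T t ht => ?_⟩
  · rw [← Category.assoc, hk]
    have := (hval₁ (t ≫ j)).1 (𝟙 T) t (by rw [(yon S).map_id]; simp)
    rw [(yon S).map_id] at this
    simpa using this
  · rw [hk]
    have := (hval₁ t).2 (𝟙 T) (by simpa [(yon S).map_id] using ht)
    rw [(yon S).map_id] at this
    simpa using this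

end Piecewise

/-- A finite étale piece of the source splits off from the normalization. -/
theorem exists_split_piece {V : Sp S} {U K N : Over S} [IsAffine U.left] (hV : IsAlgSpace V)
    {fV : V ⟶ (yon S).obj U} (hsep : IsSeparatedMor fV) (hft : LocP @LocallyOfFiniteType fV)
    {n : N ⟶ U} {g : V ⟶ (yon S).obj N} (hn : IsRelNormalization fV ((yon S).map n) g)
    {c : (yon S).obj K ⟶ V} (hce : RepWith @Etale c) {q : K ⟶ U} (hcq : c ≫ fV = (yon S).map q)
    (hqf : IsFinite q.left) :
    ∃ (Ω : Over S) (i : Ω ⟶ N) (VI : Sp S) (ι : VI ⟶ V) (r : VI ⟶ (yon S).obj Ω),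
      IsOpenImmersion i.left ∧ IsFinite (i ≫ n).left ∧ IsIso r ∧
      IsPullback ι r g ((yon S).map i) ∧ RepWith @IsOpenImmersion ι ∧
      Set.range (Points.map c) ⊆ Set.range (Points.map ι) := by
  -- the image
  have hcf : RepWith @IsFinite c := by
    refine repWith_of_comp_of_diagonal (g := fV) ?_
      (repWith_mono (P := @IsClosedImmersion) (Q := @IsFinite) (fun _ _ k (_ : IsClosedImmersion k) => inferInstance) hsep)
    rw [hcq]
    exact (repWith_yon_map_iff _ _).2 hqf
  have hcl : IsClosed (Set.range (Points.map c)) := isClosed_range_map_of_universallyClosed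
    (repWith_mono (P := @IsFinite) (Q := @UniversallyClosed) (fun _ _ k (_ : IsFinite k) => inferInstance) hcf)
  have hIo : IsOpen (Set.range (Points.map c)) := by
    have e : Set.range (Points.map c) = Set.range (Points.ofPt c) := by
      rw [show Points.ofPt c = Points.map c ∘ Points.schemeEquiv K from
        funext fun t => Points.ofPt_eq_map_ofScheme c t, (Points.schemeEquiv K).surjective.range_comp]
    rw [e]; exact (isOpenMap_ofPt c hce).isOpen_range
  let I := Set.range (Points.map c)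
  let ι : openSub I ⟶ V := openSubι I
  have hι : RepWith @IsOpenImmersion ι := repWith_openSubι hIo
  have hιr : Set.range (Points.map ι) = I := range_openSubι I
  have : Mono ι := mono_of_repWith _ (repWith_mono (fun _ _ g (_ : IsOpenImmersion g) =>
    (inferInstance : Mono g)) hι)
  have hVI : IsAlgSpace (openSub I) := isAlgSpace_of_representable hι.1 hV
  obtain ⟨c₁, hc₁⟩ := exists_factor_openSub c (le_refl I)
  have hc₁e : RepWith @Etale c₁ := by
    have sqc := isPullback_of_mono c₁ ι
    rw [hc₁] at sqc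
    exact repWith_of_isPullback sqc hce
  have hc₁s : RepWith @Surjective c₁ := repWith_surjective_of_map hc₁e.1 fun x => by
    obtain ⟨y, hy⟩ : Points.map ι x ∈ I := hιr.le ⟨x, rfl⟩
    exact ⟨y, injective_map_of_openImmersion hι (by rw [← Points.map_comp, hc₁, hy])⟩
  -- the image is a scheme
  have hqf' : LocP (@LocallyQuasiFinite ⊓ @LocallyOfFiniteType) (ι ≫ fV) := by
    refine locP_of_one_chart c₁ (𝟙 _) q hc₁e hc₁s (repWith_id _ U) ?_
      (⟨inferInstance, inferInstance⟩ : LocallyQuasiFinite q.left ∧ LocallyOfFiniteType q.left)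
    rw [← Category.assoc, hc₁, hcq, Category.comp_id]
  have hsepI : IsSeparatedMor (ι ≫ fV) :=
    repWith_diagonal_comp (repWith_diagonal_of_mono ι) hsep
  obtain ⟨J, ⟨e⟩⟩ := exists_iso_yon_of_lqf_separated hVI (ι ≫ fV) hsepI hqf'
  obtain ⟨j, hj⟩ := (yon S).map_surjective (e.hom ≫ ι ≫ fV)
  obtain ⟨d, hd⟩ := (yon S).map_surjective (c₁ ≫ e.inv)
  have hdj : d ≫ j = q := (yon S).map_injective (by
    rw [Functor.map_comp, hd, hj, Category.assoc, e.inv_hom_id_assoc, ← Category.assoc, hc₁, hcq])
  have hds : Surjective d.left := (repWith_yon_map_iff _ _).1 (by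
    rw [hd]; exact (repWith_respectsIso_right e.inv).2 hc₁s)
  have hjs : IsSeparated j.left := (isSeparatedMor_yon_map_iff j).1 (by
    rw [hj]; exact repWith_diagonal_comp (repWith_diagonal_of_mono e.hom) hsepI)
  have : IsAffine U.left := ‹_›
  have hje : (@LocallyQuasiFinite ⊓ @LocallyOfFiniteType : MorphismProperty Scheme.{u}) j.left :=
    hqf' e.hom (𝟙 _) j (repWith_mono (Q := @Etale) (fun _ _ k (_ : IsIso k) => inferInstance)
      (MorphismProperty.of_isIso (RepWith (MorphismProperty.isomorphisms Scheme.{u})) e.hom))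
      (repWith_id _ U) (by rw [hj, Category.comp_id])
  have : LocallyQuasiFinite j.left := hje.1
  have : LocallyOfFiniteType j.left := hje.2
  have : CompactSpace J.left := by
    have : IsFinite q.left := hqf
    have : CompactSpace K.left := QuasiCompact.compactSpace_of_compactSpace q.left
    exact ⟨hds.surj.range_eq ▸ isCompact_range d.left.continuous⟩
  have : QuasiCompact j.left := HasAffineProperty.iff_of_isAffine.2 ‹CompactSpace J.left›
  have : UniversallyClosed j.left := by
    have : UniversallyClosed (d.left ≫ j.left) := by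
      rw [← Over.comp_left, hdj]
      have : IsFinite q.left := hqf
      infer_instance
    exact UniversallyClosed.of_comp_surjective d.left j.left
  have : IsSeparated j.left := hjs
  have : IsProper j.left := {}
  have hjf : IsFinite j.left := IsFinite.of_isProper_of_locallyQuasiFinite j.left
  have : IsAffine J.left := isAffine_of_isAffineHom j.left
  -- the comparison with the disjoint union with the base
  let M : Over S := Over.mk (coprod.desc (f := J.hom) U.hom)
  let m : M ⟶ U := Over.homMk (coprod.desc j.left (𝟙 U.left)) (by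
    apply coprod.hom_ext
    · simp [M, Over.w j]
    · simp [M])
  let i₁ : J ⟶ M := Over.homMk coprod.inl (coprod.inl_desc _ _)
  let i₂ : U ⟶ M := Over.homMk coprod.inr (coprod.inr_desc _ _)
  have hi₁m : i₁ ≫ m = j := Over.OverMorphism.ext (coprod.inl_desc _ _)
  have hi₂m : i₂ ≫ m = 𝟙 U := Over.OverMorphism.ext (coprod.inr_desc _ _)
  have hm : IsIntegralHom m.left := inferInstanceAs (IsIntegralHom (coprod.desc j.left (𝟙 U.left)))
  have hclI : IsClosed (Set.range (Points.map ι)) := by rw [hιr]; exact hcl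
  obtain ⟨k, hk₁, hk₂⟩ := exists_piecewise hι hclI (e.inv ≫ (yon S).map i₁) (fV ≫ (yon S).map i₂)
  have hkm : k ≫ (yon S).map m = fV := hom_ext_piecewise hι hclI
    (by rw [← Category.assoc, hk₁, Category.assoc, ← Functor.map_comp, hi₁m, hj, e.inv_hom_id_assoc])
    fun T t ht => by
      rw [← Category.assoc, hk₂ t ht, Category.assoc, Category.assoc, ← Functor.map_comp, hi₂m,
        (yon S).map_id]
      simp
  have hnA := isNormAff_of_isRelNormalization hn
  obtain ⟨h, ⟨hgh, hhm⟩, -⟩ := hnA.2.2.2 m hm k hkm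
  have hr₁ : Set.range i₁.left = (Set.range i₂.left)ᶜ :=
    ((isCompl_range_inl_inr J.left U.left).eq_compl)
  have : IsOpenImmersion i₁.left := inferInstanceAs (IsOpenImmersion (coprod.inl : J.left ⟶ _))
  let Ω₀ : N.left.Opens := h.left ⁻¹ᵁ i₁.left.opensRange
  let Ω : Over S := Over.mk (Ω₀.ι ≫ N.hom)
  let i : Ω ⟶ N := Over.homMk Ω₀.ι rfl
  have hi : IsOpenImmersion i.left := inferInstanceAs (IsOpenImmersion Ω₀.ι)
  -- the map from the piece
  have hkI : ∀ p : Points V, Points.map k p ∈ Set.range (Points.map ((yon S).map i₁)) ↔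
      p ∈ Set.range (Points.map ι) := by
    intro p
    constructor
    · intro hp
      by_contra hne
      obtain ⟨T, t, x, rfl⟩ := exists_ofPt_eq p
      let O : T.left.Opens := ⟨(Points.ofPt t ⁻¹' Set.range (Points.map ι))ᶜ,
        (hclI.preimage (Points.continuous_ofPt t)).isOpen_compl⟩
      let T' : Over S := Over.mk (O.ι ≫ T.hom)
      let πo : T' ⟶ T := Over.homMk O.ι rfl
      have ht' := hk₂ ((yon S).map πo ≫ t) fun y hy => by
        rw [ofPt_map_comp] at hy
        exact y.2 hy
      have hx' : Points.ofPt ((yon S).map πo ≫ t) ⟨x, hne⟩ = Points.ofPt t x := ofPt_map_comp _ _ _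
      rw [← hx', Points.map_ofPt, ht', ← Category.assoc] at hp
      obtain ⟨y, hy⟩ := hp
      obtain ⟨y, rfl⟩ := (Points.schemeEquiv J).surjective y
      change Points.map _ (Points.ofScheme J y) = _ at hy
      obtain ⟨z, hz⟩ := (yon S).map_surjective (((yon S).map πo ≫ t) ≫ fV)
      rw [← hz, ← Functor.map_comp, ← Points.ofPt_eq_map_ofScheme, ofPt_map_eq, ofPt_map_eq] at hy
      have hy' := (Points.schemeEquiv M).injective hy
      exact (hr₁.le ⟨y, hy'⟩) ⟨_, rfl⟩
    · rintro ⟨p, rfl⟩
      rw [← Points.map_comp, hk₁, Points.map_comp]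
      exact ⟨_, rfl⟩
  have hmemΩ : ∀ {T : Over S} (t : T ⟶ N) (x : ↥T.left),
      t.left x ∈ Ω₀ ↔ Points.map ((yon S).map h) (Points.ofPt ((yon S).map t) x) ∈
        Set.range (Points.map ((yon S).map i₁)) := by
    intro T t x
    rw [Points.map_ofPt, ← Functor.map_comp, ofPt_map_eq]
    constructor
    · rintro ⟨y, hy⟩
      refine ⟨Points.ofScheme J y, ?_⟩
      rw [← Points.ofPt_eq_map_ofScheme, ofPt_map_eq]
      exact congrArg _ hy
    · rintro ⟨y, hy⟩
      obtain ⟨y, rfl⟩ := (Points.schemeEquiv J).surjective y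
      change Points.map _ (Points.ofScheme J y) = _ at hy
      rw [← Points.ofPt_eq_map_ofScheme, ofPt_map_eq] at hy
      exact ⟨y, (Points.schemeEquiv M).injective hy⟩
  have hir : Set.range (Points.map ((yon S).map i)) =
      Points.map ((yon S).map h) ⁻¹' Set.range (Points.map ((yon S).map i₁)) := by
    ext p
    obtain ⟨x, rfl⟩ := (Points.schemeEquiv N).surjective p
    have e₁ : Points.ofPt ((yon S).map (𝟙 N)) x = Points.ofScheme N x := ofPt_map_eq _ _
    rw [Set.mem_preimage]
    constructor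
    · rintro ⟨y, hy⟩
      obtain ⟨y, rfl⟩ := (Points.schemeEquiv Ω).surjective y
      change Points.map _ (Points.ofScheme Ω y) = Points.ofScheme N x at hy
      rw [← Points.ofPt_eq_map_ofScheme, ofPt_map_eq] at hy
      have hxy : i.left y = x := (Points.schemeEquiv N).injective hy
      change Points.map _ (Points.ofScheme N x) ∈ _
      rw [← e₁]
      exact (hmemΩ (𝟙 N) x).1 (show x ∈ Ω₀ from hxy ▸ y.2)
    · intro hx
      change Points.map _ (Points.ofScheme N x) ∈ _ at hx
      rw [← e₁] at hx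
      refine ⟨Points.ofScheme Ω ⟨x, (hmemΩ (𝟙 N) x).2 hx⟩, ?_⟩
      rw [← Points.ofPt_eq_map_ofScheme, ofPt_map_eq]
      rfl
  have hgI : ∀ p : Points V,
      Points.map g p ∈ Set.range (Points.map ((yon S).map i)) ↔ p ∈ Set.range (Points.map ι) := fun p => by
    rw [hir, Set.mem_preimage, ← Points.map_comp, hgh]
    exact hkI p
  have hrepi : RepWith @IsOpenImmersion ((yon S).map i) := (repWith_yon_map_iff _ _).2 hi
  obtain ⟨r, hr⟩ := exists_factor_of_range hrepi (ι ≫ g) (by
    rintro _ ⟨p, rfl⟩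
    rw [Points.map_comp]
    exact (hgI _).2 ⟨p, rfl⟩)
  have : Mono ((yon S).map i) := mono_of_repWith _ (repWith_mono (fun _ _ g (_ : IsOpenImmersion g) =>
    (inferInstance : Mono g)) hrepi)
  have sq : IsPullback r ι ((yon S).map i) g := isPullback_of_mono_lifts hr fun T y x hxy => by
    obtain ⟨p, hp⟩ := exists_factor_of_range hι y (by
      rintro _ ⟨z, rfl⟩
      refine (hgI _).1 ?_
      rw [← Points.map_comp, ← hxy, Points.map_comp]
      exact ⟨_, rfl⟩)
    exact ⟨p, hp⟩
  -- the inverse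
  let hl₀ : Ω.left ⟶ J.left := IsOpenImmersion.lift i₁.left (Ω₀.ι ≫ h.left) (by
    rintro _ ⟨x, rfl⟩; exact x.2)
  have hl₀f : hl₀ ≫ i₁.left = Ω₀.ι ≫ h.left := IsOpenImmersion.lift_fac _ _ _
  let hΩ : Ω ⟶ J := Over.homMk hl₀ (by
    rw [← Over.w i₁, ← Category.assoc, hl₀f, Category.assoc, Over.w h]; rfl)
  have hΩi : hΩ ≫ i₁ = i ≫ h := Over.OverMorphism.ext hl₀f
  have hΩj : hΩ ≫ j = i ≫ n := by
    rw [← hi₁m, ← Category.assoc, hΩi, Category.assoc, hhm]
  have : Mono ((yon S).map i₁) := mono_of_repWith _ (repWith_mono (fun _ _ g (_ : IsOpenImmersion g) =>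
    (inferInstance : Mono g)) ((repWith_yon_map_iff (P := @IsOpenImmersion) i₁).2 ‹_›))
  have hrΩ : r ≫ (yon S).map hΩ = e.inv := by
    rw [← cancel_mono ((yon S).map i₁), Category.assoc, ← Functor.map_comp, hΩi, Functor.map_comp,
      reassoc_of% hr, hgh, hk₁]
  have hcΩ : IsClosed (Set.range (Points.map ((yon S).map i))) := by
    rw [hir]
    refine IsClosed.preimage (Points.continuous_map _) ?_
    have : IsClosed (Set.range i₁.left) := by
      rw [hr₁]
      have : IsOpenImmersion i₂.left := inferInstanceAs (IsOpenImmersion (coprod.inr : U.left ⟶ _))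
      exact i₂.left.isOpenEmbedding.isOpen_range.isClosed_compl
    rw [Points.map_yon_map_eq, Set.range_comp, Homeomorph.isClosed_image, Set.range_comp,
      Homeomorph.range_coe, Set.image_univ]
    exact this
  obtain ⟨ψ, hψ₁, hψ₂⟩ := exists_piecewise hrepi hcΩ
    ((yon S).map hΩ ≫ e.hom ≫ r ≫ (yon S).map i) (𝟙 _)
  obtain ⟨ψ, rfl⟩ := (yon S).map_surjective ψ
  have hgψ : g ≫ (yon S).map ψ = g := by
    refine hom_ext_piecewise hι hclI ?_ fun T t ht => ?_
    · rw [← Category.assoc, ← hr, Category.assoc, hψ₁, reassoc_of% hrΩ, e.inv_hom_id_assoc]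
    · rw [← Category.assoc, hψ₂ (t ≫ g) (fun x hx => ht x ((hgI _).1 (by
        rw [Points.map_ofPt]; exact hx))), Category.comp_id]
  have hψn : (yon S).map ψ ≫ (yon S).map n = (yon S).map n := by
    refine hom_ext_piecewise hrepi hcΩ ?_ fun T t ht => by
      rw [← Category.assoc, hψ₂ t ht, Category.comp_id]
    rw [← Category.assoc, hψ₁, Category.assoc, Category.assoc, Category.assoc, reassoc_of% hr, hn.1,
      ← hj, ← Functor.map_comp, hΩj, Functor.map_comp]
  have hψ : ψ = 𝟙 N := (hnA.2.2.2 n hnA.2.1 g hn.1).unique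
    ⟨hgψ, (yon S).map_injective (by rw [Functor.map_comp, hψn])⟩
    ⟨by rw [(yon S).map_id]; exact Category.comp_id _, Category.id_comp _⟩
  have hiso : (((yon S).map hΩ ≫ e.hom) ≫ r) = 𝟙 _ := by
    rw [← cancel_mono ((yon S).map i), Category.id_comp, Category.assoc, Category.assoc, ← hψ₁, hψ,
      (yon S).map_id, Category.comp_id]
  have hr_iso : IsIso r := ⟨(yon S).map hΩ ≫ e.hom, by rw [reassoc_of% hrΩ, e.inv_hom_id], hiso⟩
  have hΩiso : IsIso hΩ := by
    have h1 : IsIso ((yon S).map hΩ) := by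
      have : IsIso (r ≫ (yon S).map hΩ) := by rw [hrΩ]; infer_instance
      exact IsIso.of_isIso_comp_left r ((yon S).map hΩ)
    exact isIso_of_reflects_iso hΩ (yon S)
  refine ⟨Ω, i, openSub I, ι, r, hi, ?_, hr_iso, sq.flip, hι, hιr.ge⟩
  rw [← hΩj, Over.comp_left]
  have : IsIso hΩ.left := inferInstanceAs (IsIso ((Over.forget S).map hΩ))
  infer_instance

end Groth.Agent.NormEt14
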